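import Cfsg.Agent.Components.ZJ.Reduce
import Cfsg.Agent.Components.ZJ.PCompl

/-!
Glauberman's `ZJ` theorem for the full centre of the elementary Thompson subgroup.
-/

set_option linter.style.haveILetI false
set_option linter.unusedSectionVars false

namespace Cfsg.Lib.ZJ

open Subgroup
open scoped commutatorElement

universe u

variable {G : Type u} [Group G] [Finite G] {p : ℕ} [Fact p.Prime] {S : Sylow p G}

theorem mem_maxEl_of_commute {D A : Subgroup G} (hA : A ∈ maxEl p D) {z : G} (hzD : z ∈ D)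
    (hzp : z ^ p = 1) (hcz : ∀ a ∈ A, a * z = z * a) : z ∈ A := by
  have hcA := hA.2.1.1
  have hgen : A ⊔ zpowers z = closure ((A : Set G) ∪ {z}) := by
    rw [Subgroup.closure_union, closure_eq, zpowers_eq_closure]
  have hc : IsMulCommutative ↥(A ⊔ zpowers z) := by
    rw [hgen]
    refine isMulCommutative_closure ?_
    rintro a (ha | ha) b (hb | hb)
    · exact congrArg Subtype.val (hcA.is_comm.comm (⟨a, ha⟩ : A) ⟨b, hb⟩)
    · rw [Set.mem_singleton_iff] at hb
      exact hb ▸ hcz a ha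
    · rw [Set.mem_singleton_iff] at ha
      exact ha ▸ (hcz b hb).symm
    · rw [Set.mem_singleton_iff] at ha hb
      rw [ha, hb]
  have hEl : Cfsg.IsElementaryAbelian p (A ⊔ zpowers z) := by
    refine ⟨hc, fun x hx => ?_⟩
    rw [hgen] at hx hc
    haveI := hc
    induction hx using closure_induction with
    | mem y hy =>
      rcases hy with hy | hy
      · exact hA.2.1.2 y hy
      · rw [Set.mem_singleton_iff] at hy
        rw [hy, hzp]
    | one => exact one_pow p
    | mul u v hu hv hu' hv' =>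
      rw [(show Commute u v from congrArg Subtype.val
        (mul_comm' (⟨u, hu⟩ : closure ((A : Set G) ∪ {z})) ⟨v, hv⟩)).mul_pow, hu', hv', one_mul]
    | inv u _ hu' => rw [inv_pow, hu', inv_one]
  have heq : A = A ⊔ zpowers z := Subgroup.eq_of_le_of_card_ge le_sup_left
    (hA.2.2 _ (sup_le hA.1 (zpowers_le.mpr hzD)) hEl)
  rw [heq]
  exact mem_sup_right (mem_zpowers z)

theorem thompsonSubgroupOf_eq_sSup (D : Subgroup G) :
    Cfsg.thompsonSubgroupOf p D = sSup (maxEl p D) :=
  Cfsg.Lib.Thompson.thompsonSubgroupOf_eq D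

theorem thompson_inf_eq {D M : Subgroup G} (hM : Cfsg.thompsonSubgroupOf p D ≤ M) :
    Cfsg.thompsonSubgroupOf p (D ⊓ M) = Cfsg.thompsonSubgroupOf p D := by
  have hle : ∀ A ∈ maxEl p D, A ≤ D ⊓ M := fun A hA =>
    le_inf hA.1 ((le_sSup hA).trans ((thompsonSubgroupOf_eq_sSup D).symm.le.trans hM))
  have he : maxEl p (D ⊓ M) = maxEl p D := by
    ext A
    constructor
    · intro hA
      obtain ⟨A₀, hA₀⟩ := maxEl_nonempty (p := p) D
      exact ⟨hA.1.trans inf_le_left, hA.2.1,
        fun A' h1 h2 => (hA₀.2.2 A' h1 h2).trans (hA.2.2 A₀ (hle A₀ hA₀) hA₀.2.1)⟩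
    · intro hA
      exact ⟨hle A hA, hA.2.1, fun A' h1 h2 => hA.2.2 A' (h1.trans inf_le_left) h2⟩
  rw [thompsonSubgroupOf_eq_sSup, thompsonSubgroupOf_eq_sSup, he]

/-- a normal subgroup containing `J(S)` leaves only the normalizer of `Z(J(S))` -/
theorem sup_normalizer_centerThompson (S : Sylow p G) (M : Subgroup G) [M.Normal]
    (hM : Cfsg.thompsonSubgroupOf p (S : Subgroup G) ≤ M) :
    M ⊔ normalizer (Cfsg.centerThompsonOf p (S : Subgroup G) : Set G) = ⊤ := by
  refine eq_top_iff.mpr ((sup_normalizer_inf_eq_top M S).ge.trans (sup_le_sup_left ?_ M))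
  refine (Cfsg.Lib.Thompson.normalizer_le_normalizer_thompson (p := p) _).trans ?_
  rw [thompson_inf_eq hM]
  intro g hg
  have hN : normalizer (Cfsg.thompsonSubgroupOf p (S : Subgroup G) : Set G) ≤
      normalizer ((centralizer (Cfsg.thompsonSubgroupOf p (S : Subgroup G) : Set G) : Subgroup G) : Set G) := by
    intro g hg
    have key : ∀ g ∈ normalizer (Cfsg.thompsonSubgroupOf p (S : Subgroup G) : Set G),
        ∀ x ∈ centralizer (Cfsg.thompsonSubgroupOf p (S : Subgroup G) : Set G),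
          g * x * g⁻¹ ∈ centralizer (Cfsg.thompsonSubgroupOf p (S : Subgroup G) : Set G) := by
      intro g hg x hx
      rw [mem_centralizer_iff] at hx ⊢
      intro y hy
      have h1 := hx _ ((mem_normalizer_iff''.mp hg y).mp hy)
      calc y * (g * x * g⁻¹) = g * ((g⁻¹ * y * g) * x) * g⁻¹ := by group
        _ = g * (x * (g⁻¹ * y * g)) * g⁻¹ := by rw [h1]
        _ = _ := by group
    exact Cfsg.Lib.Coprime.mem_normalizer_of_conj_mem (key g hg)
      fun x hx => by simpa using key g⁻¹ (inv_mem hg) x hx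
  exact Cfsg.Lib.Coprime.le_normalizer_inf le_rfl hN hg

theorem centerThompson_comm {z : G} (hz : z ∈ Cfsg.centerThompsonOf p (S : Subgroup G))
    {A : Subgroup G} (hA : A ∈ maxEl p (S : Subgroup G)) : ∀ a ∈ A, a * z = z * a := fun a ha =>
  mem_centralizer_iff.mp hz.2 a
    ((thompsonSubgroupOf_eq_sSup (p := p) (S : Subgroup G)).symm.le ((le_sSup hA : A ≤ _) ha))

theorem centerThompson_le (S : Sylow p G) : Cfsg.centerThompsonOf p (S : Subgroup G) ≤ S :=
  inf_le_left.trans (Cfsg.Lib.Thompson.thompsonSubgroupOf_le _)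

theorem sylow_le_normalizer_centerThompson (S : Sylow p G) :
    (S : Subgroup G) ≤ normalizer (Cfsg.centerThompsonOf p (S : Subgroup G) : Set G) := by
  intro g hg
  have h1 := (Cfsg.Lib.Thompson.normalizer_le_normalizer_thompson (p := p) (S : Subgroup G))
    (le_normalizer hg)
  set J := Cfsg.thompsonSubgroupOf p (S : Subgroup G)
  have key : ∀ g ∈ normalizer (J : Set G), ∀ x ∈ Cfsg.centerThompsonOf p (S : Subgroup G),
      g * x * g⁻¹ ∈ Cfsg.centerThompsonOf p (S : Subgroup G) := by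
    rintro g hg x ⟨hxJ, hxC⟩
    refine ⟨(mem_normalizer_iff.mp hg x).mp hxJ, mem_centralizer_iff.mpr fun y hy => ?_⟩
    have h1 := mem_centralizer_iff.mp hxC _ ((mem_normalizer_iff''.mp hg y).mp hy)
    calc y * (g * x * g⁻¹) = g * ((g⁻¹ * y * g) * x) * g⁻¹ := by group
      _ = g * (x * (g⁻¹ * y * g)) * g⁻¹ := by rw [h1]
      _ = _ := by group
  exact Cfsg.Lib.Coprime.mem_normalizer_of_conj_mem (key g h1)
    fun x hx => by simpa using key g⁻¹ (inv_mem h1) x hx

/-- **Glauberman**: `Z(J(S)) ∩ B` is normal for every normal `p`-subgroup `B` -/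
theorem centerThompson_inf_normal (hp : p ≠ 2) (hst : Stable p G) (S : Sylow p G) :
    ∀ n, ∀ B : Subgroup G, Nat.card B = n → B.Normal → IsPGroup p B →
      (Cfsg.centerThompsonOf p (S : Subgroup G) ⊓ B).Normal := by
  intro n
  induction n using Nat.strong_induction_on with
  | _ n ih =>
  intro B hn hBn hBp
  haveI := hBn
  set J := Cfsg.thompsonSubgroupOf p (S : Subgroup G) with hJdef
  set Z := Cfsg.centerThompsonOf p (S : Subgroup G) with hZdef
  have hZJ : Z ≤ J := inf_le_left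
  have hZcomm : ∀ x ∈ Z, ∀ y ∈ J, x * y = y * x := fun x hx y hy =>
    (mem_centralizer_iff.mp hx.2 y hy).symm
  have hSZ := sylow_le_normalizer_centerThompson S
  have hBS : B ≤ (S : Subgroup G) := Cfsg.Lib.Thompson.le_sylow_of_normal hBp S
  have hnZ : normalizer (J : Set G) ≤ normalizer (Z : Set G) := by
    intro g hg
    have key : ∀ g ∈ normalizer (J : Set G), ∀ x ∈ Z, g * x * g⁻¹ ∈ Z := by
      rintro g hg x ⟨hxJ, hxC⟩
      refine ⟨(mem_normalizer_iff.mp hg x).mp hxJ, mem_centralizer_iff.mpr fun y hy => ?_⟩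
      have h1 := mem_centralizer_iff.mp hxC _ ((mem_normalizer_iff''.mp hg y).mp hy)
      calc y * (g * x * g⁻¹) = g * ((g⁻¹ * y * g) * x) * g⁻¹ := by group
        _ = g * (x * (g⁻¹ * y * g)) * g⁻¹ := by rw [h1]
        _ = _ := by group
    exact Cfsg.Lib.Coprime.mem_normalizer_of_conj_mem (key g hg)
      fun x hx => by simpa using key g⁻¹ (inv_mem hg) x hx
  by_cases hB1 : normalClosure ((Z ⊓ B : Subgroup G) : Set G) = B
  swap
  · set B₁ := normalClosure ((Z ⊓ B : Subgroup G) : Set G)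
    have hle : B₁ ≤ B := normalClosure_le_normal inf_le_right
    have hlt : Nat.card B₁ < n := by
      rw [← hn]
      exact lt_of_le_of_ne (card_le_of_le hle) fun e => hB1 (eq_of_le_of_card_ge hle e.ge)
    have := ih _ hlt B₁ rfl inferInstance (hBp.to_le hle)
    rwa [show Z ⊓ B₁ = Z ⊓ B from le_antisymm (inf_le_inf_left Z hle)
      (le_inf inf_le_left subset_normalClosure)] at this
  by_cases hBne : B = ⊥
  · rw [hBne, inf_bot_eq]; infer_instance
  haveI := (nontrivial_iff_ne_bot B).mpr hBne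
  haveI := hBp.isNilpotent
  have hBlt : ⁅B, B⁆ < B := by
    refine lt_of_le_of_ne (commutator_le_right B B) fun e => ?_
    have h1 := Group.IsSolvable.commutator_lt_top_of_nontrivial B
    apply h1.ne
    apply map_injective B.subtype_injective
    rw [map_subtype_commutator, e, ← MonoidHom.range_eq_map, range_subtype]
  haveI hZB' : (Z ⊓ ⁅B, B⁆).Normal := ih _
    (hn ▸ lt_of_le_of_ne (card_le_of_le hBlt.le) fun e => hBlt.ne (eq_of_le_of_card_ge hBlt.le e.ge))
    _ rfl inferInstance (hBp.to_le hBlt.le)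
  -- `B' ≤ Z`
  have hBBZ : ⁅B, B⁆ ≤ Z ⊓ ⁅B, B⁆ := by
    set π := QuotientGroup.mk' (Z ⊓ ⁅B, B⁆)
    have hle : B ≤ (centralizer ((B.map π : Subgroup _) : Set _)).comap π := by
      conv_lhs => rw [← hB1]
      refine normalClosure_le_normal fun z hz => ?_
      rw [SetLike.mem_coe, mem_comap, mem_centralizer_iff]
      rintro _ ⟨b, hb, rfl⟩
      refine commutatorElement_eq_one_iff_mul_comm.mp ?_
      rw [← map_commutatorElement]
      refine (QuotientGroup.eq_one_iff _).mpr ⟨?_, commutator_mem_commutator hb hz.2⟩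
      rw [commutatorElement_def]
      exact Subgroup.mul_mem Z ((mem_normalizer_iff.mp (hSZ (hBS hb)) z).mp hz.1) (Subgroup.inv_mem Z hz.1)
    rw [commutator_le]
    intro x hx y hy
    rw [← QuotientGroup.eq_one_iff (N := Z ⊓ ⁅B, B⁆)]
    show π ⁅x, y⁆ = 1
    rw [map_commutatorElement]
    exact commutatorElement_eq_one_iff_mul_comm.mpr
      (mem_centralizer_iff.mp (hle hx) _ ⟨y, hy, rfl⟩).symm
  have hBBZ' : ⁅B, B⁆ ≤ Z := hBBZ.trans inf_le_left
  have hclass : ∀ c ∈ ⁅B, B⁆, ∀ b ∈ B, c * b = b * c := by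
    have hle : B ≤ centralizer ((⁅B, B⁆ : Subgroup G) : Set G) := by
      conv_lhs => rw [← hB1]
      refine normalClosure_le_normal fun z hz => ?_
      exact mem_centralizer_iff.mpr fun c hc => hZcomm c (hBBZ' hc) z (hZJ hz.1)
    exact fun c hc b hb => mem_centralizer_iff.mp (hle hb) c hc
  have hcomm : ∀ x ∈ B, ∀ y ∈ B, Commute ⁅x, y⁆ x ∧ Commute ⁅x, y⁆ y := fun x hx y hy =>
    ⟨hclass _ (commutator_mem_commutator hx hy) x hx, hclass _ (commutator_mem_commutator hx hy) y hy⟩
  -- the `p`-th powers of `Z ∩ B` are permuted by `G`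
  set B₂ := normalClosure ((fun z => z ^ p) '' ((Z ⊓ B : Subgroup G) : Set G)) with hB₂def
  have hB₂le : B₂ ≤ (frattini B).map B.subtype := by
    haveI : ((frattini B).map B.subtype).Normal := inferInstance
    refine normalClosure_le_normal ?_
    rintro _ ⟨z, hz, rfl⟩
    exact ⟨⟨z, hz.2⟩ ^ p, Cfsg.Lib.PGroups.pow_mem_frattini hBp _, rfl⟩
  have hB₂B : B₂ ≤ B := hB₂le.trans (map_subtype_le _)
  have hB₂lt : Nat.card B₂ < n := by
    rw [← hn]
    refine lt_of_le_of_ne (card_le_of_le hB₂B) fun e => ?_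
    have h2 : B ≤ (frattini B).map B.subtype := (eq_of_le_of_card_ge hB₂B e.ge).ge.trans hB₂le
    have h3 : frattini B = ⊤ := eq_top_iff.mpr fun b _ => by
      obtain ⟨b', hb', he⟩ := h2 b.2
      rwa [← Subtype.ext he]
    exact bot_ne_top (frattini_nongenerating (K := (⊥ : Subgroup B)) (by rw [h3, sup_top_eq]))
  haveI hZB₂ : (Z ⊓ B₂).Normal := ih _ hB₂lt B₂ rfl inferInstance (hBp.to_le hB₂B)
  have hpow : ∀ z ∈ Z ⊓ B, ∀ g : G, ∃ y ∈ Z ⊓ B, y ^ p = (g * z * g⁻¹) ^ p := by
    intro z hz g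
    set C₂ := centralizer ((Z ⊓ B₂ : Subgroup G) : Set G)
    haveI : C₂.Normal := inferInstance
    have hJC : J ≤ C₂ := fun y hy => mem_centralizer_iff.mpr fun x hx => hZcomm x hx.1 y hy
    obtain ⟨c, hc, m, hm, rfl⟩ := mem_sup_of_normal_left.mp
      ((sup_normalizer_centerThompson S C₂ hJC).ge (mem_top g))
    have hy : m * z * m⁻¹ ∈ Z ⊓ B :=
      ⟨(mem_normalizer_iff.mp hm z).mp hz.1, hBn.conj_mem z hz.2 m⟩
    refine ⟨m * z * m⁻¹, hy, ?_⟩
    have hyp : (m * z * m⁻¹) ^ p ∈ Z ⊓ B₂ :=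
      ⟨pow_mem hy.1 p, subset_normalClosure ⟨_, hy, rfl⟩⟩
    rw [show c * m * z * (c * m)⁻¹ = c * (m * z * m⁻¹) * c⁻¹ by group, conj_pow (a := c) (b := m * z * m⁻¹),
      ← mem_centralizer_iff.mp hc _ hyp, mul_inv_cancel_right]
  -- the elements of order dividing `p`
  set B₀ := closure {x : G | x ∈ B ∧ x ^ p = 1} with hB₀def
  have hB₀B : B₀ ≤ B := (closure_le _).mpr fun x hx => hx.1
  have hB₀p : ∀ x ∈ B₀, x ^ p = 1 := by
    intro x hx
    induction hx using closure_induction with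
    | mem y hy => exact hy.2
    | one => exact one_pow p
    | inv u _ hu => rw [inv_pow, hu, inv_one]
    | mul u v hu hv hu' hv' =>
      obtain ⟨h1, h2⟩ := hcomm v (hB₀B hv) u (hB₀B hu)
      rw [Cfsg.Lib.PGroups.mul_pow_of_commute_commutator h2 h1, hu', hv', one_mul, one_mul]
      obtain ⟨m, hm⟩ := Cfsg.Lib.PGroups.dvd_choose_two (Fact.out : p.Prime) hp
      rw [hm, pow_mul, ← Cfsg.Lib.PGroups.commutator_pow_left_of_commute h1, hv',
        commutatorElement_one_left, one_pow]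
  have hBgen : B ≤ (Z ⊓ B) ⊔ B₀ := by
    intro b hb
    rw [← hB1] at hb
    refine closure_induction (p := fun z _ => z ∈ (Z ⊓ B) ⊔ B₀) ?_ (one_mem _)
      (fun _ _ _ _ => mul_mem) (fun _ _ => inv_mem) hb
    intro x hx
    obtain ⟨z, hz, hconj⟩ := Group.mem_conjugatesOfSet_iff.mp hx
    obtain ⟨g, hg⟩ := isConj_iff.mp hconj
    obtain ⟨y, hy, hyp⟩ := hpow z hz g
    rw [hg] at hyp
    have hxB : x ∈ B := hg ▸ hBn.conj_mem z hz.2 g
    have hyB : y⁻¹ ∈ B := inv_mem hy.2
    obtain ⟨h1, h2⟩ := hcomm y⁻¹ hyB x hxB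
    have hc1 : ⁅y⁻¹, x⁆ ^ p = 1 := by
      rw [← Cfsg.Lib.PGroups.commutator_pow_right_of_commute h2, ← hyp,
        commutatorElement_eq_one_iff_mul_comm]
      exact (((Commute.refl y).inv_left).pow_right p).eq
    have hw : x * y⁻¹ ∈ B₀ := subset_closure ⟨mul_mem hxB hyB, by
      rw [Cfsg.Lib.PGroups.mul_pow_of_commute_commutator h2 h1, inv_pow, hyp, mul_inv_cancel, one_mul]
      obtain ⟨m, hm⟩ := Cfsg.Lib.PGroups.dvd_choose_two (Fact.out : p.Prime) hp
      rw [hm, pow_mul, hc1, one_pow]⟩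
    rw [show x = (x * y⁻¹) * y by group]
    exact mul_mem (mem_sup_right hw) (mem_sup_left hy)
  set C := centralizer (B : Set G)
  haveI : C.Normal := inferInstance
  set L := (Cfsg.pCore p (G ⧸ C)).comap (QuotientGroup.mk' C)
  have hmem : ∀ A ∈ maxEl p (S : Subgroup G), A ≤ J := fun A hA =>
    (le_sSup hA).trans (thompsonSubgroupOf_eq_sSup (S : Subgroup G)).symm.le
  -- `B` centralizes every member inside `S ∩ L`
  have hBA : ∀ A ∈ maxEl p (S : Subgroup G), A ≤ (S : Subgroup G) ⊓ L → B ≤ centralizer (A : Set G) := by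
    intro A hA hAL b hb
    rw [← hB1] at hb
    refine closure_induction (p := fun z _ => z ∈ centralizer (A : Set G)) ?_ (one_mem _)
      (fun _ _ _ _ => mul_mem) (fun _ _ => inv_mem) hb
    intro x hx
    obtain ⟨z, hz, hconj⟩ := Group.mem_conjugatesOfSet_iff.mp hx
    obtain ⟨g, hg⟩ := isConj_iff.mp hconj
    obtain ⟨c, hc, m, hm, rfl⟩ := mem_sup_of_normal_left.mp
      ((sup_normalizer_eq_top S C).ge (mem_top g))
    have hmz : m * z * m⁻¹ ∈ B := hBn.conj_mem z hz.2 m
    have he : x = m * z * m⁻¹ := by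
      rw [← hg]
      calc c * m * z * (c * m)⁻¹ = c * (m * z * m⁻¹) * c⁻¹ := by group
        _ = _ := by rw [← mem_centralizer_iff.mp hc _ hmz, mul_inv_cancel_right]
    rw [he, mem_centralizer_iff]
    intro a ha
    have hA' : A.map (MulAut.conj m⁻¹).toMonoidHom ≤ (S : Subgroup G) := by
      rintro _ ⟨a, ha, rfl⟩
      exact ((mem_normalizer_iff.mp (inv_mem hm) a).mp (hAL ha)).1
    have hz' := hZcomm z hz.1 (m⁻¹ * a * m) (hmem _
      ((family_maxEl hp (stronglyClosed_self (S : Subgroup G))).inv m⁻¹ A hA hA')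
      ⟨a, ha, by simp⟩)
    calc a * (m * z * m⁻¹) = m * ((m⁻¹ * a * m) * z) * m⁻¹ := by group
      _ = m * (z * (m⁻¹ * a * m)) * m⁻¹ := by rw [hz']
      _ = _ := by group
  by_cases hall : ∀ A ∈ maxEl p (S : Subgroup G), B ≤ centralizer (A : Set G)
  · -- then `J` centralizes `B`
    have hJC : J ≤ C := by
      rw [hJdef, thompsonSubgroupOf_eq_sSup]
      exact sSup_le fun A hA => le_centralizer_iff.mp (hall A hA)
    rw [← normalizer_eq_top_iff, eq_top_iff, ← sup_normalizer_centerThompson S C hJC]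
    refine sup_le ?_ (Cfsg.Lib.Coprime.le_normalizer_inf le_rfl le_normalizer_of_normal)
    refine le_trans (fun c hc => ?_) (centralizer_le_normalizer' _)
    exact mem_centralizer_iff.mpr fun x hx => mem_centralizer_iff.mp hc x hx.2
  · exfalso
    push Not at hall
    obtain ⟨A₁, hA₁, hnle⟩ := hall
    have hder : ⁅B₀, B₀⁆ ≤ A₁ := by
      rw [commutator_le]
      intro x hx y hy
      have hc0 : ⁅x, y⁆ ∈ B₀ := by
        rw [commutatorElement_def]
        exact mul_mem (mul_mem (mul_mem hx hy) (inv_mem hx)) (inv_mem hy)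
      have hcZ : ⁅x, y⁆ ∈ Z := hBBZ' (commutator_mem_commutator (hB₀B hx) (hB₀B hy))
      exact mem_maxEl_of_commute hA₁ (centerThompson_le S hcZ) (hB₀p _ hc0)
        (centerThompson_comm hcZ hA₁)
    have hnle₀ : ¬ B₀ ≤ A₁ := fun h => hnle (hBgen.trans (sup_le
      (fun z hz => mem_centralizer_iff.mpr (centerThompson_comm hz.1 hA₁))
      (h.trans (fun a ha => mem_centralizer_iff.mpr fun a' ha' =>
        congrArg Subtype.val (hA₁.2.1.1.is_comm.comm (⟨a', ha'⟩ : A₁) ⟨a, ha⟩)))))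
    have hB₀n : (S : Subgroup G) ≤ normalizer (B₀ : Set G) := by
      intro s _
      have key : ∀ s : G, ∀ x ∈ B₀, s * x * s⁻¹ ∈ B₀ := fun s x hx => by
        induction hx using closure_induction with
        | mem y hy => exact subset_closure ⟨hBn.conj_mem y hy.1 s, by rw [conj_pow, hy.2, mul_one, mul_inv_cancel]⟩
        | one => simp
        | inv u _ hu => simpa [mul_assoc] using inv_mem hu
        | mul u v _ _ hu hv => simpa [mul_assoc] using mul_mem hu hv
      exact Cfsg.Lib.Coprime.mem_normalizer_of_conj_mem (key s) fun x hx => by simpa using key s⁻¹ x hx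
    obtain ⟨A, hA, hnA, hB₀N⟩ := exists_maxEl_normalized hp S.2 (hB₀B.trans hBS) hB₀n le_rfl
      le_normalizer ⟨A₁, hA₁, hder, hnle₀⟩
    have hBN : B ≤ normalizer (A : Set G) := hBgen.trans (sup_le
      (fun z hz => centralizer_le_normalizer' A
        (mem_centralizer_iff.mpr (centerThompson_comm hz.1 hA)))
      hB₀N)
    have hAL : A ≤ (S : Subgroup G) ⊓ L := le_inf hA.1 fun a ha => by
      haveI := hA.2.1.1
      exact hst B hBp a (S.2.to_le (zpowers_le.mpr (hA.1 ha))) (quadratic_of_normalizes hBN ha)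
    exact hnA fun b hb => mem_maxEl_of_commute hA (hBS (hB₀B hb)) (hB₀p b hb)
      (mem_centralizer_iff.mp (hBA A hA hAL (hB₀B hb)))

/-- **Glauberman's `ZJ` theorem** for the centre of the elementary Thompson subgroup. -/
theorem centerThompson_normal (hp : p ≠ 2) (hst : Stable p G)
    (hc : centralizer (Cfsg.pCore p G : Set G) ≤ Cfsg.pCore p G) (S : Sylow p G) :
    (Cfsg.centerThompsonOf p (S : Subgroup G)).Normal := by
  set Z := Cfsg.centerThompsonOf p (S : Subgroup G) with hZdef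
  set Q := Cfsg.pCore p G
  have hQp : IsPGroup p Q := Cfsg.Lib.Components.isPGroup_pCore p
  have hle : Z ≤ Q := by
    intro z hz
    haveI : IsMulCommutative Z := ⟨⟨fun a b => Subtype.ext
      (mem_centralizer_iff.mp b.2.2 a a.2.1)⟩⟩
    have hQN : Q ≤ normalizer (Z : Set G) :=
      (Cfsg.Lib.Thompson.le_sylow_of_normal hQp S).trans (sylow_le_normalizer_centerThompson S)
    have h1 := hst Q hQp z (S.2.to_le (zpowers_le.mpr (centerThompson_le S hz)))
      (quadratic_of_normalizes hQN hz)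
    set π := QuotientGroup.mk' (centralizer (Q : Set G))
    have hLp : IsPGroup p ((Cfsg.pCore p (G ⧸ centralizer (Q : Set G))).comap π) :=
      (Cfsg.Lib.Components.isPGroup_pCore p).comap_of_ker_isPGroup π
        (by rw [QuotientGroup.ker_mk']; exact hQp.to_le hc)
    exact Cfsg.Lib.Components.le_pCore hLp (show z ∈ (Cfsg.pCore p _).comap π from h1)
  have := centerThompson_inf_normal hp hst S _ Q rfl inferInstance hQp
  rwa [inf_eq_left.mpr hle] at this

theorem centerThompsonOf_map_injOn {H : Type u} [Group H] {f : G →* H} {D : Subgroup G}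
    (hf : Set.InjOn f D) :
    (Cfsg.centerThompsonOf p D).map f = Cfsg.centerThompsonOf p (D.map f) := by
  rw [Cfsg.centerThompsonOf, Cfsg.centerThompsonOf, ← Cfsg.Lib.Thompson.map_thompsonSubgroupOf hf]
  exact Cfsg.Lib.Thompson.map_inf_centralizer (hf.mono (Cfsg.Lib.Thompson.thompsonSubgroupOf_le D))

end Cfsg.Lib.ZJ
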