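import Cfsg.Agent.Components.ZJ.Reduce

/-!
Equivariance of the Thompson functors, and the local-to-global argument for locals of characteristic `p`.
-/

set_option linter.style.haveILetI false
set_option linter.unusedSectionVars false

namespace Cfsg.Lib.ZJ

open Subgroup
open scoped Pointwise

universe u

variable {G : Type u} [Group G] [Finite G] {p : ℕ} [Fact p.Prime]

theorem map_omegaOne {H : Type u} [Group H] (e : G ≃* H) (X : Subgroup G) :
    (Cfsg.omegaOne p X).map e.toMonoidHom = Cfsg.omegaOne p (X.map e.toMonoidHom) := by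
  rw [Cfsg.omegaOne, Cfsg.omegaOne, MonoidHom.map_closure]
  congr 1
  ext y
  constructor
  · rintro ⟨x, ⟨hx, hxp⟩, rfl⟩
    exact ⟨mem_map_of_mem _ hx, by rw [← map_pow, hxp, map_one]⟩
  · rintro ⟨⟨x, hx, rfl⟩, hxp⟩
    exact ⟨x, ⟨hx, e.injective (by simpa [map_pow] using hxp)⟩, rfl⟩

theorem map_centralizer_equiv {H : Type u} [Group H] (e : G ≃* H) (X : Subgroup G) :
    (centralizer (X : Set G)).map e.toMonoidHom = centralizer ((X.map e.toMonoidHom : Subgroup H) : Set H) := by
  ext y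
  rw [mem_map_equiv, mem_centralizer_iff, mem_centralizer_iff]
  constructor
  · rintro h _ ⟨x, hx, rfl⟩
    apply e.symm.injective
    simpa using h x hx
  · intro h x hx
    apply e.injective
    simpa using h (e x) ⟨x, hx, rfl⟩

theorem map_centerThompsonOf {H : Type u} [Group H] (e : G ≃* H) (D : Subgroup G) :
    (Cfsg.centerThompsonOf p D).map e.toMonoidHom = Cfsg.centerThompsonOf p (D.map e.toMonoidHom) := by
  rw [Cfsg.centerThompsonOf, Cfsg.centerThompsonOf, Subgroup.map_inf _ _ _ e.injective,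
    map_centralizer_equiv, Cfsg.Lib.Thompson.map_thompsonSubgroupOf (f := e.toMonoidHom) e.injective.injOn]

theorem omegaCenterThompson_map_subtype (S : Subgroup G) :
    (Cfsg.omegaCenterThompson p S).map S.subtype = Cfsg.omegaOne p (Cfsg.centerThompsonOf p S) := by
  rw [Cfsg.omegaCenterThompson, Cfsg.omegaOne, Cfsg.omegaOne, MonoidHom.map_closure]
  congr 1
  ext y
  constructor
  · rintro ⟨x, ⟨⟨hxJ, hxC⟩, hxp⟩, rfl⟩
    refine ⟨⟨mem_map_of_mem _ hxJ, ?_⟩, by rw [← map_pow, hxp, map_one]⟩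
    show S.subtype x ∈ centralizer _
    rw [mem_centralizer_iff]
    rintro _ ⟨a, ha, rfl⟩
    rw [← map_mul, ← map_mul]
    exact congrArg S.subtype (mem_centralizer_iff.mp hxC a ha)
  · rintro ⟨⟨⟨x, hxJ, rfl⟩, hxC⟩, hxp⟩
    refine ⟨x, ⟨⟨hxJ, ?_⟩, S.subtype_injective (by simpa [map_pow] using hxp)⟩, rfl⟩
    show x ∈ centralizer _
    rw [mem_centralizer_iff]
    intro a ha
    exact S.subtype_injective (by
      rw [map_mul, map_mul]; exact mem_centralizer_iff.mp hxC _ (mem_map_of_mem _ ha))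

theorem characteristic_of_normal (W : Subgroup G → Subgroup G)
    (hW : ∀ (e : G ≃* G) (T : Subgroup G), (W T).map e.toMonoidHom = W (T.map e.toMonoidHom))
    (S : Sylow p G) (hn : (W (S : Subgroup G)).Normal) : (W (S : Subgroup G)).Characteristic := by
  refine characteristic_iff_map_eq.mpr fun φ => ?_
  rw [hW]
  have hp' : IsPGroup p ((S : Subgroup G).map φ.toMonoidHom) := S.2.map φ.toMonoidHom
  obtain ⟨T, hT⟩ := hp'.exists_le_sylow
  have hTeq : (S : Subgroup G).map φ.toMonoidHom = T := by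
    refine eq_of_le_of_card_ge hT (le_of_eq ?_)
    rw [Subgroup.card_map_of_injective φ.injective]
    exact T.card_eq_multiplicity.trans S.card_eq_multiplicity.symm
  obtain ⟨g, hg⟩ := MulAction.exists_smul_eq G S T
  rw [hTeq, ← hg, Cfsg.Lib.Transfer.sylow_smul_coe, ← hW]
  exact Cfsg.Lib.Transfer.map_conj_eq_self_iff.mpr
    (by rw [normalizer_eq_top_iff.mpr hn]; exact mem_top g)

variable (W : Subgroup G → Subgroup G)

/-- every `p`-local with Sylow subgroup `T` normalizes `W T` -/
def LocalNormal (p : ℕ) : Prop :=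
  ∀ Q T : Subgroup G, Q ≠ ⊥ → IsPGroup p Q → T ≤ normalizer (Q : Set G) → IsPGroup p T →
    ¬ p ∣ T.relIndex (normalizer (Q : Set G)) →
      normalizer (Q : Set G) ≤ normalizer (W T : Set G)

theorem exists_sylow_normalizer (Q R : Subgroup G) (hR : IsPGroup p R)
    (hRN : R ≤ normalizer (Q : Set G)) : ∃ T : Subgroup G, R ≤ T ∧ T ≤ normalizer (Q : Set G) ∧
      IsPGroup p T ∧ ¬ p ∣ T.relIndex (normalizer (Q : Set G)) := by
  set N := normalizer (Q : Set G)
  obtain ⟨S, hS⟩ := (hR.comap_subtype (K := N)).exists_le_sylow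
  refine ⟨(S : Subgroup N).map N.subtype, ?_, map_subtype_le _, S.2.map _, ?_⟩
  · intro x hx
    exact ⟨⟨x, hRN hx⟩, hS hx, rfl⟩
  · show ¬ p ∣ (((S : Subgroup N).map N.subtype).subgroupOf N).index
    rw [show ((S : Subgroup N).map N.subtype).subgroupOf N = (S : Subgroup N) from
      comap_map_eq_self_of_injective N.subtype_injective _]
    exact S.not_dvd_index

/-- **local to global**: every local normalizer lies in `N(W P)` -/
theorem normalizer_le (hW : ∀ (g : G) (T : Subgroup G),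
      (W T).map (MulAut.conj g).toMonoidHom = W (T.map (MulAut.conj g).toMonoidHom))
    (hWp : ∀ T : Subgroup G, IsPGroup p T → W T ≤ T ∧ (T ≠ ⊥ → W T ≠ ⊥))
    (hloc : LocalNormal W p) (P : Sylow p G) (Q : Subgroup G) (hQP : Q ≤ (P : Subgroup G))
    (hQ1 : Q ≠ ⊥) : normalizer (Q : Set G) ≤ normalizer (W (P : Subgroup G) : Set G) := by
  set M := normalizer (W (P : Subgroup G) : Set G) with hM
  have hPM : (P : Subgroup G) ≤ M := fun x hx => by
    rw [hM, ← Cfsg.Lib.Transfer.map_conj_eq_self_iff, hW,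
      Cfsg.Lib.Transfer.map_conj_eq_self_iff.mpr (le_normalizer hx)]
  have hconjN : ∀ g : G, ∀ R : Subgroup G, normalizer ((R.map (MulAut.conj g).toMonoidHom : Subgroup G) : Set G) =
      (normalizer (R : Set G)).map (MulAut.conj g).toMonoidHom := fun g R =>
    Cfsg.Lib.Coprime.normalizer_conjMap g R
  -- conjugation of a `p`-subgroup into `P`
  have hto : ∀ R : Subgroup G, IsPGroup p R → ∃ g : G, R ≤ (P : Subgroup G).map (MulAut.conj g).toMonoidHom := by
    intro R hR
    obtain ⟨S, hS⟩ := hR.exists_le_sylow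
    obtain ⟨g, hg⟩ := MulAction.exists_smul_eq G P S
    exact ⟨g, by rw [← Cfsg.Lib.Transfer.sylow_smul_coe, hg]; exact hS⟩
  suffices key : ∀ r : ℕ, (∀ g : G, ∀ R : Subgroup G, R ≠ ⊥ → R ≤ (P : Subgroup G) →
        R ≤ (P : Subgroup G).map (MulAut.conj g).toMonoidHom →
        Nat.card (P : Subgroup G) - Nat.card R ≤ r → g ∈ M) ∧
      (∀ Q T : Subgroup G, Q ≠ ⊥ → IsPGroup p Q → T ≤ normalizer (Q : Set G) → IsPGroup p T →
        ¬ p ∣ T.relIndex (normalizer (Q : Set G)) → T ≤ (P : Subgroup G) → T ≠ ⊥ →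
        Nat.card (P : Subgroup G) - Nat.card T ≤ r → normalizer (Q : Set G) ≤ M) by
    have hQp : IsPGroup p Q := P.2.to_le hQP
    obtain ⟨T, hQT, hTN, hTp, hTnd⟩ := exists_sylow_normalizer Q Q hQp le_normalizer
    obtain ⟨a, ha⟩ := hto T hTp
    obtain ⟨h1, h2⟩ := key (Nat.card (P : Subgroup G))
    have haM : a ∈ M := h1 a Q hQ1 hQP (hQT.trans ha) (Nat.sub_le _ _)
    set T' := T.map (MulAut.conj a⁻¹).toMonoidHom
    have hT'P : T' ≤ (P : Subgroup G) := by
      rintro _ ⟨x, hx, rfl⟩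
      obtain ⟨y, hy, rfl⟩ := ha hx
      convert hy using 1
      simp [mul_assoc]
      exact Iff.rfl
    have hQ' : Q.map (MulAut.conj a⁻¹).toMonoidHom ≠ ⊥ := fun h => hQ1
      ((map_eq_bot_iff_of_injective _ (MulAut.conj a⁻¹).injective).mp h)
    have hle := h2 (Q.map (MulAut.conj a⁻¹).toMonoidHom) T' hQ' (hQp.map _)
      (hconjN a⁻¹ Q ▸ map_mono hTN) (hTp.map _)
      (by rw [hconjN]; rw [show T'.relIndex _ = T.relIndex (normalizer (Q : Set G)) from
        relIndex_map_map_of_injective T (normalizer (Q : Set G)) (MulAut.conj a⁻¹).injective]; exact hTnd)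
      hT'P (fun h => hQ1 (le_bot_iff.mp (hQT.trans (le_of_eq
        ((map_eq_bot_iff_of_injective _ (MulAut.conj a⁻¹).injective).mp h)))))
      (Nat.sub_le _ _)
    intro x hx
    have h3 := hle (hconjN a⁻¹ Q ▸ mem_map_of_mem (MulAut.conj a⁻¹).toMonoidHom hx)
    have h4 := mul_mem (mul_mem haM h3) (inv_mem haM)
    simpa [mul_assoc] using h4
  intro r
  induction r using Nat.strong_induction_on with
  | _ r ih =>
  have hA : ∀ g : G, ∀ R : Subgroup G, R ≠ ⊥ → R ≤ (P : Subgroup G) →
      R ≤ (P : Subgroup G).map (MulAut.conj g).toMonoidHom →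
      Nat.card (P : Subgroup G) - Nat.card R ≤ r → g ∈ M := by
    intro g R hR1 hRP hRg hr
    -- enlarge
    set D := (P : Subgroup G) ⊓ (P : Subgroup G).map (MulAut.conj g).toMonoidHom with hD
    have hRD : R ≤ D := le_inf hRP hRg
    have hD1 : D ≠ ⊥ := fun h => hR1 (le_bot_iff.mp (h ▸ hRD))
    by_cases hDP : D = (P : Subgroup G)
    · have hPg : (P : Subgroup G).map (MulAut.conj g).toMonoidHom = (P : Subgroup G) :=
        (eq_of_le_of_card_ge (le_of_eq_of_le hDP.symm inf_le_right) (Cfsg.Lib.Transfer.card_map_conj _ g).le).symm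
      rw [hM, ← Cfsg.Lib.Transfer.map_conj_eq_self_iff, hW, hPg]
    have hDlt : D < (P : Subgroup G) := lt_of_le_of_ne inf_le_left hDP
    have hgrow := Cfsg.Lib.Fusion.lt_inf_normalizer P.2 hDlt le_rfl
    have hDlt' : D < (P : Subgroup G).map (MulAut.conj g).toMonoidHom := by
      refine lt_of_le_of_ne inf_le_right fun h => hDP ?_
      exact eq_of_le_of_card_ge inf_le_left (by rw [h, Cfsg.Lib.Transfer.card_map_conj])
    have hgrow' := Cfsg.Lib.Fusion.lt_inf_normalizer (P.2.map (MulAut.conj g).toMonoidHom) hDlt' le_rfl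
    have hDp : IsPGroup p D := P.2.to_le inf_le_left
    obtain ⟨T, hT0, hTN, hTp, hTnd⟩ := exists_sylow_normalizer D
      ((P : Subgroup G) ⊓ normalizer (D : Set G)) (P.2.to_le inf_le_left) inf_le_right
    obtain ⟨a, ha⟩ := hto T hTp
    have hbig : Nat.card D < Nat.card ((P : Subgroup G) ⊓ normalizer (D : Set G) : Subgroup G) :=
      lt_of_le_of_ne (card_le_of_le hgrow.le) fun h => hgrow.ne (eq_of_le_of_card_ge hgrow.le h.ge)
    have hDR : Nat.card R ≤ Nat.card D := card_le_of_le hRD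
    have hNP : Nat.card ((P : Subgroup G) ⊓ normalizer (D : Set G) : Subgroup G) ≤ Nat.card (P : Subgroup G) :=
      card_le_of_le inf_le_left
    have haM : a ∈ M := (ih (Nat.card (P : Subgroup G) -
        Nat.card ((P : Subgroup G) ⊓ normalizer (D : Set G) : Subgroup G)) (by omega)).1 a
      ((P : Subgroup G) ⊓ normalizer (D : Set G))
      (fun h => hD1 (le_bot_iff.mp (h ▸ hgrow.le))) inf_le_left (hT0.trans ha) le_rfl
    -- `N(D) ≤ M`
    set T' := T.map (MulAut.conj a⁻¹).toMonoidHom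
    have hT'P : T' ≤ (P : Subgroup G) := by
      rintro _ ⟨x, hx, rfl⟩
      obtain ⟨y, hy, rfl⟩ := ha hx
      convert hy using 1
      simp [mul_assoc]
      exact Iff.rfl
    have hT'card : Nat.card T' = Nat.card T := Cfsg.Lib.Transfer.card_map_conj _ _
    have hTbig := hbig.trans_le (card_le_of_le hT0)
    have hND : normalizer (D : Set G) ≤ M := by
      have hle := (ih (Nat.card (P : Subgroup G) - Nat.card T')
        (by
          have := card_le_of_le hT0
          have := card_le_of_le hT'P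
          omega)).2 (D.map (MulAut.conj a⁻¹).toMonoidHom) T'
        (fun h => hD1 ((map_eq_bot_iff_of_injective _ (MulAut.conj a⁻¹).injective).mp h)) (hDp.map _)
        (hconjN a⁻¹ D ▸ map_mono hTN) (hTp.map _)
        (by rw [hconjN]; rw [show T'.relIndex _ = T.relIndex (normalizer (D : Set G)) from
          relIndex_map_map_of_injective T (normalizer (D : Set G)) (MulAut.conj a⁻¹).injective]; exact hTnd)
        hT'P (fun h => by
          rw [h, Subgroup.card_bot] at hT'card
          have := Nat.card_pos (α := D)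
          omega) le_rfl
      intro x hx
      have h3 := hle (hconjN a⁻¹ D ▸ mem_map_of_mem (MulAut.conj a⁻¹).toMonoidHom hx)
      have h4 := mul_mem (mul_mem haM h3) (inv_mem haM)
      simpa [mul_assoc] using h4
    -- move `N_{gPg⁻¹}(D)` into `P` by an element of `M`
    set R' := (P : Subgroup G).map (MulAut.conj g).toMonoidHom ⊓ normalizer (D : Set G)
    have hR'M : R' ≤ M := inf_le_right.trans hND
    obtain ⟨S, hS⟩ := ((P.2.map (MulAut.conj g).toMonoidHom).to_le
      (inf_le_left : R' ≤ _)).comap_subtype (K := M) |>.exists_le_sylow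
    obtain ⟨m, hm⟩ := MulAction.exists_smul_eq M S (P.subtype hPM)
    set R'' := R'.map (MulAut.conj (m : G)).toMonoidHom
    have hR''P : R'' ≤ (P : Subgroup G) := by
      rintro _ ⟨x, hx, rfl⟩
      have h5 : m * ⟨x, hR'M hx⟩ * m⁻¹ ∈ (P.subtype hPM : Subgroup M) := by
        rw [← hm]
        exact Cfsg.Lib.Transfer.mem_conj_sylow_iff.mpr (hS hx)
      rw [Sylow.coe_subtype, mem_subgroupOf] at h5
      exact h5
    have hR''g : R'' ≤ (P : Subgroup G).map (MulAut.conj ((m : G) * g)).toMonoidHom := by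
      rintro _ ⟨x, hx, rfl⟩
      obtain ⟨y, hy, rfl⟩ := hx.1
      exact ⟨y, hy, by simp [mul_assoc]⟩
    have hbig' : Nat.card D < Nat.card R'' := by
      rw [Cfsg.Lib.Transfer.card_map_conj]
      exact lt_of_le_of_ne (card_le_of_le hgrow'.le) fun h => hgrow'.ne (eq_of_le_of_card_ge hgrow'.le h.ge)
    have hmg : (m : G) * g ∈ M := (ih (Nat.card (P : Subgroup G) - Nat.card R'')
      (by have := card_le_of_le hR''P; omega)).1 _ R''
      (fun h => by
        rw [h, Subgroup.card_bot] at hbig'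
        have := Nat.card_pos (α := D)
        omega)
      hR''P hR''g le_rfl
    simpa using mul_mem (inv_mem m.2) hmg
  refine ⟨hA, fun Q T hQ1 hQp hTN hTp hTnd hTP hT1 hr => ?_⟩
  have hn := hloc Q T hQ1 hQp hTN hTp hTnd
  by_cases hTPe : T = (P : Subgroup G)
  · rw [← hTPe] at hM; exact hn.trans hM.ge
  set H₁ := normalizer (W T : Set G)
  have hTlt : T < (P : Subgroup G) := lt_of_le_of_ne hTP hTPe
  have hgrow := Cfsg.Lib.Fusion.lt_inf_normalizer P.2 hTlt le_rfl
  have hNN : (P : Subgroup G) ⊓ normalizer (T : Set G) ≤ H₁ := fun x hx => by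
    show x ∈ normalizer _
    rw [← Cfsg.Lib.Transfer.map_conj_eq_self_iff, hW, Cfsg.Lib.Transfer.map_conj_eq_self_iff.mpr hx.2]
  obtain ⟨T₁, hT₀, hT₁N, hT₁p, hT₁nd⟩ := exists_sylow_normalizer (W T)
    ((P : Subgroup G) ⊓ normalizer (T : Set G)) (P.2.to_le inf_le_left) hNN
  obtain ⟨a, ha⟩ := hto T₁ hT₁p
  have hbig : Nat.card T < Nat.card ((P : Subgroup G) ⊓ normalizer (T : Set G) : Subgroup G) :=
    lt_of_le_of_ne (card_le_of_le hgrow.le) fun h => hgrow.ne (eq_of_le_of_card_ge hgrow.le h.ge)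
  have hNP : Nat.card ((P : Subgroup G) ⊓ normalizer (T : Set G) : Subgroup G) ≤ Nat.card (P : Subgroup G) :=
    card_le_of_le inf_le_left
  have haM : a ∈ M := (ih (Nat.card (P : Subgroup G) -
      Nat.card ((P : Subgroup G) ⊓ normalizer (T : Set G) : Subgroup G)) (by omega)).1 a
    ((P : Subgroup G) ⊓ normalizer (T : Set G))
    (fun h => hT1 (le_bot_iff.mp (h ▸ hgrow.le))) inf_le_left (hT₀.trans ha) le_rfl
  set T' := T₁.map (MulAut.conj a⁻¹).toMonoidHom
  have hT'P : T' ≤ (P : Subgroup G) := by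
    rintro _ ⟨x, hx, rfl⟩
    obtain ⟨y, hy, rfl⟩ := ha hx
    convert hy using 1
    simp [mul_assoc]
    exact Iff.rfl
  have hT'card : Nat.card T' = Nat.card T₁ := Cfsg.Lib.Transfer.card_map_conj _ _
  have hle := (ih (Nat.card (P : Subgroup G) - Nat.card T')
    (by
      have := card_le_of_le hT₀
      have := card_le_of_le hT'P
      omega)).2 ((W T).map (MulAut.conj a⁻¹).toMonoidHom) T'
    (fun h => (hWp T hTp).2 hT1 ((map_eq_bot_iff_of_injective _ (MulAut.conj a⁻¹).injective).mp h))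
    ((hTp.to_le (hWp T hTp).1).map _)
    (hconjN a⁻¹ (W T) ▸ map_mono hT₁N) (hT₁p.map _)
    (by rw [hconjN]; rw [show T'.relIndex _ = T₁.relIndex (normalizer (W T : Set G)) from
      relIndex_map_map_of_injective T₁ (normalizer (W T : Set G)) (MulAut.conj a⁻¹).injective]; exact hT₁nd)
    hT'P (fun h => by
      rw [h, Subgroup.card_bot] at hT'card
      have := card_le_of_le hT₀
      have := Nat.card_pos (α := T)
      omega) le_rfl
  intro x hx
  have h3 := hle (hconjN a⁻¹ (W T) ▸ mem_map_of_mem (MulAut.conj a⁻¹).toMonoidHom (hn hx))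
  have h4 := mul_mem (mul_mem haM h3) (inv_mem haM)
  simpa [mul_assoc] using h4

end Cfsg.Lib.ZJ
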