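import Cfsg.Agent.Components.ZJ.Functor
import Cfsg.Agent.Components.Control.Functors
import Cfsg.Agent.Thompson.PComplement

/-!
Control of fusion by `Z(J(D))` for a strongly closed subgroup `D`.
-/

set_option linter.style.haveILetI false
set_option linter.unusedSectionVars false

namespace Cfsg.Lib.ZJ

open Subgroup
open scoped commutatorElement

universe u

variable {G : Type u} [Group G] [Finite G] {p : ℕ} [Fact p.Prime]

theorem normalizerPStable_subgroup (h : Cfsg.IsNormalizerPStable p G) (H : Subgroup G) :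
    Cfsg.IsNormalizerPStable p H := by
  intro P hP g hg hquad
  set P' := P.map H.subtype with hP'
  have hg' : (g : G) ∈ normalizer (P' : Set G) := le_normalizer_map H.subtype ⟨g, hg, rfl⟩
  have hquad' : ⁅⁅P', zpowers (g : G)⁆, zpowers (g : G)⁆ = ⊥ := by
    rw [show zpowers (g : G) = (zpowers g).map H.subtype from (MonoidHom.map_zpowers H.subtype g).symm,
      hP', ← map_commutator, ← map_commutator, hquad, Subgroup.map_bot]
  have hm := h P' (hP.map _) g hg' hquad'
  let ι : normalizer (P : Set H) →* normalizer (P' : Set G) :=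
    { toFun := fun x => ⟨((x : H) : G), le_normalizer_map H.subtype ⟨x, x.2, rfl⟩⟩
      map_one' := rfl
      map_mul' := fun _ _ => rfl }
  have hiff : ∀ x : normalizer (P : Set H),
      x ∈ (centralizer (P : Set H)).subgroupOf (normalizer (P : Set H)) ↔
        ι x ∈ (centralizer (P' : Set G)).subgroupOf (normalizer (P' : Set G)) := by
    intro x
    simp only [mem_subgroupOf, mem_centralizer_iff]
    constructor
    · rintro hx _ ⟨y, hy, rfl⟩
      exact congrArg (Subtype.val : H → G) (hx y hy)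
    · intro hx y hy
      exact Subtype.ext (hx (y : G) ⟨y, hy, rfl⟩)
  let f := QuotientGroup.map _ _ ι (fun x hx => mem_comap.mpr ((hiff x).mp hx))
  have hf : Function.Injective f := by
    rw [injective_iff_map_eq_one]
    intro q
    induction q using QuotientGroup.induction_on with
    | H x =>
      intro hx
      rw [QuotientGroup.map_mk, QuotientGroup.eq_one_iff] at hx
      rw [QuotientGroup.eq_one_iff]
      exact (hiff x).mpr hx
  exact Cfsg.Lib.Components.le_pCore ((Cfsg.Lib.Components.isPGroup_pCore p).comap_of_injective f hf) hm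

variable {N : Subgroup G} [N.Normal]

theorem stable_quotient_of_normalizer (hN : (Nat.card N).Coprime p)
    (hst : Cfsg.IsNormalizerPStable p G) : Stable p (G ⧸ N) := by
  intro B hBn hB ab hab hquad
  set π := QuotientGroup.mk' N
  have hπ : Function.Surjective π := QuotientGroup.mk'_surjective N
  obtain ⟨T⟩ := (inferInstance : Nonempty (Sylow p G))
  obtain ⟨T', hT'⟩ := hab.exists_le_sylow
  obtain ⟨g, hg⟩ := MulAction.exists_smul_eq (G ⧸ N) (T.mapSurjective hπ) T'
  obtain ⟨g, rfl⟩ := hπ g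
  set R := g • T
  have hR : (R : Subgroup G).map π = (T' : Subgroup (G ⧸ N)) := by
    rw [← hg, Cfsg.Lib.Transfer.sylow_smul_coe, Cfsg.Lib.Transfer.sylow_smul_coe]
    show _ = ((T : Subgroup G).map π).map (MulAut.conj (π g)).toMonoidHom
    rw [map_map, map_map]
    congr 1
  obtain ⟨a, ha, rfl⟩ := hR.ge (hT' (mem_zpowers ab))
  set B₀ := (R : Subgroup G) ⊓ B.comap π
  have hB₀ := map_inf_eq hN R hB
  have hB₀p : IsPGroup p B₀ := R.2.to_le inf_le_left
  have hnorm : ∀ u ∈ zpowers a, ∀ x ∈ B₀, u * x * u⁻¹ ∈ B₀ := fun u hu x hx =>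
    ⟨(R : Subgroup G).mul_mem ((R : Subgroup G).mul_mem ((zpowers_le.mpr ha) hu) hx.1)
      ((R : Subgroup G).inv_mem ((zpowers_le.mpr ha) hu)),
      Subgroup.Normal.conj_mem inferInstance x hx.2 u⟩
  have hquad₀ : ⁅⁅B₀, zpowers a⁆, zpowers a⁆ = ⊥ := by
    have hle : ⁅⁅B₀, zpowers a⁆, zpowers a⁆ ≤ (R : Subgroup G) := by
      refine (commutator_mono (commutator_mono inf_le_left (zpowers_le.mpr ha))
        (zpowers_le.mpr ha)).trans ?_
      exact (commutator_mono (commutator_le_self _) le_rfl).trans (commutator_le_self _)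
    have h1 : (⁅⁅B₀, zpowers a⁆, zpowers a⁆).map π = ⊥ := by
      rw [Subgroup.map_commutator, Subgroup.map_commutator, MonoidHom.map_zpowers, hB₀]
      exact hquad
    rw [eq_bot_iff]
    intro x hx
    rw [mem_bot]
    refine injOn_mk hN R.2 (hle hx) (one_mem _) ?_
    rw [map_one]
    exact mem_bot.mp (h1 ▸ mem_map_of_mem π hx)
  have haN : a ∈ normalizer (B₀ : Set G) := mem_normalizer_iff.mpr fun x =>
    ⟨hnorm a (mem_zpowers a) x, fun hx => by
      simpa [mul_assoc] using hnorm a⁻¹ (inv_mem (mem_zpowers a)) _ hx⟩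
  have h := hst B₀ hB₀p a haN hquad₀
  have hle : (centralizer (B₀ : Set G)).subgroupOf (normalizer (B₀ : Set G)) ≤
      (centralizer (B : Set (G ⧸ N))).comap (π.comp (normalizer (B₀ : Set G)).subtype) := by
    intro x hx
    rw [mem_comap, mem_centralizer_iff]
    intro y hy
    obtain ⟨y, hy', rfl⟩ := hB₀.ge hy
    show π y * π (x : G) = π (x : G) * π y
    rw [← map_mul, ← map_mul]
    exact congrArg π (mem_centralizer_iff.mp hx y hy')
  let f := QuotientGroup.map _ _ (π.comp (normalizer (B₀ : Set G)).subtype) hle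
  have hf : Function.Surjective f := by
    intro q
    induction q using QuotientGroup.induction_on with
    | H y =>
      obtain ⟨y, rfl⟩ := hπ y
      haveI : (B.comap π).Normal := inferInstance
      obtain ⟨m, hm, w, hw, rfl⟩ := mem_sup_of_normal_left.mp
        ((sup_normalizer_inf_eq_top (B.comap π) R).ge (mem_top y))
      obtain ⟨b, hb, hbm⟩ := hB₀.ge (show π m ∈ B from hm)
      refine ⟨QuotientGroup.mk (⟨b * w, mul_mem (le_normalizer hb) hw⟩ : normalizer (B₀ : Set G)), ?_⟩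
      show QuotientGroup.mk (π (b * w)) = QuotientGroup.mk (π (m * w))
      rw [map_mul, map_mul, hbm]
  exact map_pCore_le hf (mem_map_of_mem f h)

/-- the image of a strongly closed subgroup modulo a normal `p'`-subgroup -/
theorem stronglyClosed_map (P : Sylow p G) {D : Subgroup G}
    (hD : Cfsg.IsStronglyClosed D (P : Subgroup G)) :
    Cfsg.IsStronglyClosed (D.map (QuotientGroup.mk' N)) ((P : Subgroup G).map (QuotientGroup.mk' N)) := by
  set π := QuotientGroup.mk' N
  refine ⟨map_mono hD.1, ?_⟩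
  rintro _ ⟨x, hx, rfl⟩ g' hg
  obtain ⟨g, rfl⟩ := QuotientGroup.mk'_surjective N g'
  rw [← map_inv, ← map_mul, ← map_mul] at hg ⊢
  set y := g * x * g⁻¹ with hy
  set M := (P : Subgroup G) ⊔ N with hM
  have hyM : y ∈ M := by
    have := mem_comap.mpr hg
    rwa [comap_map_eq, QuotientGroup.ker_mk'] at this
  have hyp : IsPGroup p (zpowers y) := by
    have h0 : IsPGroup p (zpowers x) := P.2.to_le (zpowers_le.mpr (hD.1 hx))
    have h1 := h0.map (MulAut.conj g).toMonoidHom
    rwa [MonoidHom.map_zpowers] at h1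
  obtain ⟨Q, hQ⟩ := (hyp.comap_subtype (K := M)).exists_le_sylow
  obtain ⟨m, hm⟩ := MulAction.exists_smul_eq M Q (P.subtype le_sup_left)
  have h5 : (m : G) * y * (m : G)⁻¹ ∈ (P : Subgroup G) := by
    have h5 : m * ⟨y, hyM⟩ * m⁻¹ ∈ (P.subtype (le_sup_left : (P : Subgroup G) ≤ M) : Subgroup M) := by
      rw [← hm]
      exact Cfsg.Lib.Transfer.mem_conj_sylow_iff.mpr (hQ (mem_zpowers y))
    rw [Sylow.coe_subtype, mem_subgroupOf] at h5
    exact h5
  obtain ⟨r, hr, k, hk, hrk⟩ := mem_sup_of_normal_right.mp m.2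
  have h6 : k * y * k⁻¹ ∈ (P : Subgroup G) := by
    have h7 := mul_mem (mul_mem (inv_mem hr) h5) hr
    rw [← hrk] at h7
    simpa [mul_assoc] using h7
  rw [show k * y * k⁻¹ = k * g * x * (k * g)⁻¹ by rw [hy]; group] at h6
  refine ⟨_, hD.2 x hx (k * g) h6, ?_⟩
  have hk1 : π k = 1 := (QuotientGroup.eq_one_iff k).mpr hk
  rw [show k * g * x * (k * g)⁻¹ = k * y * k⁻¹ by rw [hy]; group, map_mul, map_mul, map_inv, hk1,
    one_mul, inv_one, mul_one]

theorem sup_normalizer_of_map_normal (hN : (Nat.card N).Coprime p) (P : Sylow p G) {Z : Subgroup G}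
    (hZP : Z ≤ (P : Subgroup G)) (hn : (Z.map (QuotientGroup.mk' N)).Normal) :
    N ⊔ normalizer (Z : Set G) = ⊤ := by
  set π := QuotientGroup.mk' N
  have hinj := injOn_mk hN P.2
  haveI := hn
  set M := (Z.map π).comap π
  have hM : M = N ⊔ Z := by
    show (Z.map π).comap π = _
    rw [comap_map_eq, QuotientGroup.ker_mk', sup_comm]
  have hPM : (P : Subgroup G) ⊓ M = Z := by
    refine le_antisymm (fun x hx => ?_) (le_inf hZP (hM ▸ le_sup_right))
    obtain ⟨z, hz, hzx⟩ := hx.2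
    rw [← hinj (hZP hz) hx.1 hzx]
    exact hz
  have hfr := sup_normalizer_inf_eq_top M P
  rw [hPM, hM, sup_assoc, sup_eq_right.mpr le_normalizer] at hfr
  exact hfr

theorem omegaOne_map_injOn {H : Type u} [Group H] {f : G →* H} {X : Subgroup G} (hf : Set.InjOn f X) :
    (Cfsg.omegaOne p X).map f = Cfsg.omegaOne p (X.map f) := by
  rw [Cfsg.omegaOne, Cfsg.omegaOne, MonoidHom.map_closure]
  congr 1
  ext y
  constructor
  · rintro ⟨x, ⟨hx, hxp⟩, rfl⟩
    exact ⟨mem_map_of_mem _ hx, by rw [← map_pow, hxp, map_one]⟩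
  · rintro ⟨⟨x, hx, rfl⟩, hxp⟩
    exact ⟨x, ⟨hx, hf (pow_mem hx p) (one_mem X) (by rw [map_pow, map_one]; exact hxp)⟩, rfl⟩

theorem omegaCenterThompsonOf_map_injOn {H : Type u} [Group H] {f : G →* H} {D : Subgroup G}
    (hf : Set.InjOn f D) :
    (Cfsg.omegaOne p (Cfsg.centerThompsonOf p D)).map f =
      Cfsg.omegaOne p (Cfsg.centerThompsonOf p (D.map f)) := by
  have hle : Cfsg.centerThompsonOf p D ≤ D :=
    inf_le_left.trans (Cfsg.Lib.Thompson.thompsonSubgroupOf_le D)
  rw [omegaOne_map_injOn (hf.mono hle)]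
  congr 1
  rw [Cfsg.centerThompsonOf, Cfsg.centerThompsonOf, ← Cfsg.Lib.Thompson.map_thompsonSubgroupOf hf]
  exact Cfsg.Lib.Thompson.map_inf_centralizer (hf.mono (Cfsg.Lib.Thompson.thompsonSubgroupOf_le D))

theorem centerThompsonAOf_ne_bot {D : Subgroup G} (hD : IsPGroup p D) (hne : D ≠ ⊥) :
    Cfsg.centerThompsonAOf D ≠ ⊥ := by
  intro h
  refine Cfsg.Lib.Thompson.center_ne_bot hD hne (le_bot_iff.mp ?_)
  rw [← h, Cfsg.Lib.Fusion.centerThompsonAOf_eq]
  refine le_iInf₂ fun A hA z hz => ?_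
  haveI := hA.2.1
  have hcomm : IsMulCommutative (A ⊔ zpowers z : Subgroup G) := by
    rw [show A ⊔ zpowers z = closure ((A : Set G) ∪ {z}) by
      rw [Subgroup.closure_union, closure_eq, zpowers_eq_closure]]
    refine isMulCommutative_closure ?_
    rintro a (ha | ha) b (hb | hb)
    · exact congrArg Subtype.val (mul_comm' (⟨a, ha⟩ : A) ⟨b, hb⟩)
    · rw [Set.mem_singleton_iff] at hb
      subst hb
      exact mem_centralizer_iff.mp hz.2 a (hA.1 ha)
    · rw [Set.mem_singleton_iff] at ha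
      subst ha
      exact (mem_centralizer_iff.mp hz.2 b (hA.1 hb)).symm
    · rw [Set.mem_singleton_iff] at ha hb
      rw [ha, hb]
  have heq : A = A ⊔ zpowers z := eq_of_le_of_card_ge le_sup_left
    (hA.2.2 _ (sup_le hA.1 (zpowers_le.mpr hz.1)) hcomm)
  rw [heq]
  exact mem_sup_right (mem_zpowers z)

theorem omega_ne_bot {D : Subgroup G} (hD : IsPGroup p D) (hne : D ≠ ⊥) :
    Cfsg.omegaOne p (Cfsg.centerThompsonOf p D) ≠ ⊥ := by
  have hJ := Cfsg.Lib.Thompson.thompsonSubgroupOf_ne_bot hD hne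
  have hJp := hD.to_le (Cfsg.Lib.Thompson.thompsonSubgroupOf_le (p := p) D)
  have hc := Cfsg.Lib.Thompson.center_ne_bot hJp hJ
  haveI : Nontrivial (Cfsg.centerThompsonOf p D) := (nontrivial_iff_ne_bot _).mpr hc
  obtain ⟨x, hx⟩ := exists_prime_orderOf_dvd_card' (G := Cfsg.centerThompsonOf p D) p
    ((IsPGroup.card_eq_or_dvd (G := Cfsg.centerThompsonOf p D) (hJp.to_le inf_le_left)).resolve_left
      (Finite.one_lt_card).ne')
  intro h
  have hxp : (x : G) ^ p = 1 := by
    have h := pow_orderOf_eq_one x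
    rw [hx] at h
    exact congrArg Subtype.val h
  have hmem : (x : G) ∈ Cfsg.omegaOne p (Cfsg.centerThompsonOf p D) := subset_closure ⟨x.2, hxp⟩
  rw [h, mem_bot] at hmem
  have h1 : x = 1 := Subtype.ext hmem
  rw [h1, orderOf_one] at hx
  exact (Fact.out : p.Prime).ne_one hx.symm

/-- coprime conjugation: an element of `K` moving `X` inside `N(Z)` acts as one of `K ∩ N(Z)` -/
theorem exists_coprime_conj {K X Z : Subgroup G} (hK : (Nat.card K).Coprime p) (hX : IsPGroup p X)
    (hXK : X ≤ normalizer (K : Set G)) (hXZ : X ≤ normalizer (Z : Set G)) {k : G} (hk : k ∈ K)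
    (hkX : ∀ a ∈ X, k * a * k⁻¹ ∈ normalizer (Z : Set G)) :
    ∃ l ∈ K ⊓ normalizer (Z : Set G), ∀ a ∈ X, k * a * k⁻¹ = l * a * l⁻¹ := by
  set L := K ⊓ normalizer (Z : Set G)
  have hXL : X ≤ normalizer (L : Set G) :=
    Cfsg.Lib.Coprime.le_normalizer_inf hXK (hXZ.trans le_normalizer)
  set M := L ⊔ X
  have hkM : ∀ a ∈ X, k * a * k⁻¹ ∈ M := fun a ha => by
    have h1 : k * a * k⁻¹ * a⁻¹ ∈ K := by
      have := (mem_normalizer_iff.mp (hXK ha) k⁻¹).mp (inv_mem hk)
      rw [show k * a * k⁻¹ * a⁻¹ = k * (a * k⁻¹ * a⁻¹) by group]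
      exact mul_mem hk this
    have h2 : k * a * k⁻¹ * a⁻¹ ∈ L := ⟨h1, (normalizer (Z : Set G)).mul_mem (hkX a ha) ((normalizer (Z : Set G)).inv_mem (hXZ ha))⟩
    have := mul_mem (mem_sup_left h2 : _ ∈ M) (mem_sup_right ha : a ∈ M)
    rwa [inv_mul_cancel_right] at this
  obtain ⟨r, hr⟩ := IsPGroup.iff_card.mp hX
  have hLc : (Nat.card L).Coprime p :=
    Nat.Coprime.coprime_dvd_left (card_dvd_of_le inf_le_left) hK
  have hLX : (Nat.card L).Coprime (Nat.card X) := by rw [hr]; exact hLc.pow_right r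
  have hcard := Cfsg.Lib.Coprime.card_sup_coprime hXL hLX
  have hnd : ¬ p ∣ X.relIndex M := by
    intro hd
    have h1 := relIndex_mul_relIndex ⊥ X M bot_le le_sup_right
    rw [relIndex_bot_left, relIndex_bot_left, hcard, mul_comm (Nat.card L)] at h1
    rw [Nat.eq_of_mul_eq_mul_left Nat.card_pos h1] at hd
    exact Nat.not_coprime_of_dvd_of_dvd (Fact.out : p.Prime).one_lt hd dvd_rfl hLc
  let S₁ : Sylow p M := (hX.comap_subtype (K := M)).toSylow hnd
  obtain ⟨S₂, hS₂⟩ := ((hX.map (MulAut.conj k).toMonoidHom).comap_subtype (K := M)).exists_le_sylow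
  obtain ⟨m, hm⟩ := MulAction.exists_smul_eq M S₂ S₁
  obtain ⟨l, hl, x, hx, hlx⟩ := (Cfsg.Lib.Coprime.mem_sup_of_le_normalizer hXL).mp (inv_mem m.2)
  refine ⟨l, hl, fun a ha => ?_⟩
  have h5 : m * ⟨k * a * k⁻¹, hkM a ha⟩ * m⁻¹ ∈ (S₁ : Subgroup M) := by
    rw [← hm]
    exact Cfsg.Lib.Transfer.mem_conj_sylow_iff.mpr (hS₂ ⟨a, ha, rfl⟩)
  have h6 : (m : G) * (k * a * k⁻¹) * (m : G)⁻¹ ∈ X := h5
  have hm' : (m : G) = x⁻¹ * l⁻¹ := by rw [← inv_inv (m : G), ← hlx]; group
  rw [hm'] at h6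
  have h7 : l⁻¹ * k * a * (l⁻¹ * k)⁻¹ ∈ X := by
    have := mul_mem (mul_mem hx h6) (inv_mem hx)
    simpa [mul_assoc] using this
  have hlk : l⁻¹ * k ∈ K := mul_mem (inv_mem hl.1) hk
  have h8 : l⁻¹ * k * a * (l⁻¹ * k)⁻¹ * a⁻¹ ∈ K := by
    rw [show l⁻¹ * k * a * (l⁻¹ * k)⁻¹ * a⁻¹ = l⁻¹ * k * (a * (l⁻¹ * k)⁻¹ * a⁻¹) by group]
    exact mul_mem hlk ((mem_normalizer_iff.mp (hXK ha) _).mp (inv_mem hlk))
  have h9 : l⁻¹ * k * a * (l⁻¹ * k)⁻¹ * a⁻¹ = 1 := Cfsg.Lib.Coprime.eq_one_of_coprime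
    (N := K) (H := X) (by rw [hr]; exact hK.pow_right r) h8 (mul_mem h7 (inv_mem ha))
  rw [mul_inv_eq_one] at h9
  calc k * a * k⁻¹ = l * (l⁻¹ * k * a * (l⁻¹ * k)⁻¹) * l⁻¹ := by group
    _ = l * a * l⁻¹ := by rw [h9]

/-- **control of strong fusion** by a functor evaluated on a strongly closed subgroup -/
theorem controls_of_stronglyClosed (P : Sylow p G) (D : Subgroup G)
    (hD : Cfsg.IsStronglyClosed D (P : Subgroup G)) (Φ : Subgroup G → Subgroup G)
    (hΦle : ∀ T, T ≤ (P : Subgroup G) → Φ T ≤ T)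
    (hΦne : ∀ T, T ≤ (P : Subgroup G) → T ≠ ⊥ → Φ T ≠ ⊥)
    (hΦmap : ∀ (g : G) T, (Φ T).map (MulAut.conj g).toMonoidHom = Φ (T.map (MulAut.conj g).toMonoidHom))
    (hfac : ∀ U : Subgroup G, U ≤ (P : Subgroup G) → U ≠ ⊥ → Control.Good p (P : Subgroup G) U →
      ∀ y ∈ normalizer (U : Set G), ∃ n ∈ normalizer (U : Set G) ⊓
          normalizer (Φ ((P : Subgroup G) ⊓ normalizer (U : Set G) ⊓ D) : Set G),
        ∃ k ∈ (Cfsg.pPrimeCore p ↥(normalizer (U : Set G))).map (normalizer (U : Set G)).subtype,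
          y = n * k) :
    ∀ A : Set G, A ⊆ (P : Subgroup G) →
      Cfsg.ControlsStrongFusionOf (normalizer (Φ D : Set G)) (P : Subgroup G) A := by
  intro A hA
  refine ⟨hA, fun g hgA => ?_⟩
  by_cases hD1 : D = ⊥
  · have hle : Φ D = ⊥ := le_bot_iff.mp ((hΦle D hD.1).trans hD1.le)
    refine ⟨g, ?_, fun a _ => rfl⟩
    rw [hle, normalizer_eq_top]
    exact mem_top g
  -- `D` meets the centre of `P`
  have hDn := le_normalizer_of_stronglyClosed hD
  haveI : (D.subgroupOf (P : Subgroup G)).Normal :=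
    normal_subgroupOf_iff_le_normalizer hD.1 |>.mpr hDn
  have hmeet : (P : Subgroup G) ⊓ centralizer ((P : Subgroup G) : Set G) ⊓ D ≠ ⊥ := by
    intro h
    have hne : D.subgroupOf (P : Subgroup G) ≠ ⊥ := by
      rw [Ne, subgroupOf_eq_bot, disjoint_iff, inf_eq_left.mpr hD.1]
      exact hD1
    haveI : Finite (P : Subgroup G) := inferInstance
    obtain ⟨z, hzD, hzC, hz1⟩ : ∃ z : (P : Subgroup G), z ∈ D.subgroupOf (P : Subgroup G) ∧
        z ∈ Subgroup.center (P : Subgroup G) ∧ z ≠ 1 := by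
      obtain ⟨z, h1, h2, h3⟩ := Cfsg.Lib.PGroups.exists_mem_center_of_normal_ne_bot P.2 hne
      exact ⟨z, h1, h2, fun h4 => by
        rw [h4, orderOf_one] at h3
        exact (Fact.out : p.Prime).ne_one h3.symm⟩
    have hzm : (z : G) ∈ (P : Subgroup G) ⊓ centralizer ((P : Subgroup G) : Set G) ⊓ D :=
      ⟨⟨z.2, mem_centralizer_iff.mpr fun y hy =>
        congrArg Subtype.val (mem_center_iff.mp hzC ⟨y, hy⟩)⟩, hzD⟩
    rw [h, mem_bot] at hzm
    exact hz1 (Subtype.ext hzm)
  let W : Subgroup G → Subgroup G := fun R => Φ (R ⊓ D)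
  have hRD : ∀ (R : Subgroup G) (x : G), R ≤ (P : Subgroup G) →
      R.map (MulAut.conj x).toMonoidHom ≤ (P : Subgroup G) →
      R.map (MulAut.conj x).toMonoidHom ⊓ D = (R ⊓ D).map (MulAut.conj x).toMonoidHom := by
    intro R x hR hxR
    ext z
    constructor
    · rintro ⟨⟨r, hr, rfl⟩, hz⟩
      refine ⟨r, ⟨hr, ?_⟩, rfl⟩
      have h1 := hD.2 _ hz x⁻¹ (by simpa [mul_assoc] using hR hr)
      simpa [mul_assoc] using h1
    · rintro ⟨r, hr, rfl⟩
      exact ⟨⟨r, hr.1, rfl⟩, hD.2 r hr.2 x (hxR ⟨r, hr.1, rfl⟩)⟩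
  obtain ⟨c, hc, hcg⟩ : Control.Agree {W} ⊤ (P : Subgroup G) A g := by
    refine Control.agree_of_local P {W}
      {U | U ≤ (P : Subgroup G) ∧ Control.Good p (P : Subgroup G) U} (fun U hU => hU.1) ?_
      (fun U hU => hU.2) ?_ ?_ ?_ ?_ A g hA hgA
    · intro T hT
      obtain ⟨x, hx, hgood⟩ := Control.exists_good P hT
      exact ⟨_, ⟨hx, hgood⟩, ⟨x, rfl⟩, hgood⟩
    · rintro W' rfl R hR
      exact (hΦle _ (inf_le_left.trans hR)).trans inf_le_left
    · rintro W' rfl R x hR hxR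
      show Φ (_ ⊓ D) = (Φ (R ⊓ D)).map (MulAut.conj x).toMonoidHom
      rw [hΦmap, hRD R x hR hxR]
    · rintro W' rfl U hU hU1
      refine hΦne _ (inf_le_left.trans inf_le_left) fun h => hmeet (le_bot_iff.mp (h ▸ ?_))
      exact le_inf (le_inf (inf_le_left.trans inf_le_left)
        ((inf_le_left.trans inf_le_right).trans ((centralizer_le hU).trans
          (Cfsg.Lib.Thompson.centralizer_le_normalizer U)))) inf_le_right
    · intro U hU hU1 B y hy hB hyB
      set H := normalizer (U : Set G)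
      set R := (P : Subgroup G) ⊓ H
      obtain ⟨n, hn, k, hk, hyk⟩ := hfac U hU.1 hU1 hU.2 y hy
      set K := (Cfsg.pPrimeCore p ↥H).map H.subtype
      have hKc : (Nat.card K).Coprime p := by
        rw [card_map_of_injective H.subtype_injective]
        exact Cfsg.Lib.Components.coprime_card_pPrimeCore p
      have hHK : H ≤ normalizer (K : Set G) := by
        intro h hh
        exact le_normalizer_map H.subtype
          ⟨⟨h, hh⟩, by rw [normalizer_eq_top]; exact mem_top _, rfl⟩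
      have hKH : K ≤ H := map_subtype_le _
      set Z := Φ (R ⊓ D)
      have hRZ : R ≤ normalizer (Z : Set G) := fun r hr => by
        have hRr : R.map (MulAut.conj r).toMonoidHom = R :=
          Cfsg.Lib.Transfer.map_conj_eq_self_iff.mpr (le_normalizer hr)
        rw [← Cfsg.Lib.Transfer.map_conj_eq_self_iff, hΦmap,
          ← hRD R r inf_le_left (hRr.le.trans inf_le_left), hRr]
      obtain ⟨l, hl, hlk⟩ := exists_coprime_conj (Z := Z) hKc
        ((P.2.to_le (inf_le_left : R ≤ _)).to_le ((closure_le R).mpr hB))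
        (((closure_le R).mpr hB).trans (inf_le_right.trans hHK)) (((closure_le R).mpr hB).trans hRZ) hk (by
          intro a ha
          have h1 : closure (Control.img y B) ≤ R := (closure_le R).mpr hyB
          rw [Control.closure_img] at h1
          have h2 : y * a * y⁻¹ ∈ R := h1 ⟨a, ha, rfl⟩
          have h3 := (normalizer (Z : Set G)).mul_mem
            ((normalizer (Z : Set G)).mul_mem ((normalizer (Z : Set G)).inv_mem hn.2) (hRZ h2)) hn.2
          rw [hyk] at h3
          rwa [show n⁻¹ * (n * k * a * (n * k)⁻¹) * n = k * a * k⁻¹ by group] at h3)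
      have hx : n * l ∈ H ⊓ normalizer ((W R : Subgroup G) : Set G) :=
        ⟨mul_mem hn.1 (hKH hl.1), mul_mem hn.2 hl.2⟩
      have hagree : ∀ a ∈ B, n * l * a * (n * l)⁻¹ = y * a * y⁻¹ := fun a ha => by
        rw [hyk]
        calc n * l * a * (n * l)⁻¹ = n * (l * a * l⁻¹) * n⁻¹ := by group
          _ = n * (k * a * k⁻¹) * n⁻¹ := by rw [hlk a (subset_closure ha)]
          _ = _ := by group
      exact ⟨n * l, Control.Chain.single ⟨⟨W, rfl, hx⟩, hB, (Control.img_congr hagree).symm ▸ hyB⟩, hagree⟩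
  have h1 := (Control.chain_singleton hc).2
  refine ⟨c, ?_, fun a ha => (hcg a ha).symm⟩
  change c ∈ normalizer ((Φ ((P : Subgroup G) ⊓ D) : Subgroup G) : Set G) at h1
  rwa [inf_eq_right.mpr hD.1] at h1

/-- the local factorisation -/
theorem local_factor (hp : p ≠ 2) (hst : Cfsg.IsNormalizerPStable p G) (P : Sylow p G) {D U : Subgroup G}
    (hD : Cfsg.IsStronglyClosed D (P : Subgroup G)) (hc : Cfsg.IsPConstrained p ↥(normalizer (U : Set G)))
    (hg : Control.Good p (P : Subgroup G) U) :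
    ∀ y ∈ normalizer (U : Set G),
      (∃ n ∈ normalizer (U : Set G) ⊓
          normalizer (Cfsg.centerThompsonAOf ((P : Subgroup G) ⊓ normalizer (U : Set G) ⊓ D) : Set G),
        ∃ k ∈ (Cfsg.pPrimeCore p ↥(normalizer (U : Set G))).map (normalizer (U : Set G)).subtype,
          y = n * k) ∧
      (∃ n ∈ normalizer (U : Set G) ⊓ normalizer (Cfsg.omegaOne p
          (Cfsg.centerThompsonOf p ((P : Subgroup G) ⊓ normalizer (U : Set G) ⊓ D)) : Set G),
        ∃ k ∈ (Cfsg.pPrimeCore p ↥(normalizer (U : Set G))).map (normalizer (U : Set G)).subtype,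
          y = n * k) := by
  set H := normalizer (U : Set G)
  set R := (P : Subgroup G) ⊓ H
  let R' : Sylow p H := ((P.2.to_le (inf_le_left : R ≤ P)).comap_subtype (K := H)).toSylow hg
  set D' := (R ⊓ D).subgroupOf H with hD'
  have hDR : D' ≤ (R' : Subgroup H) := fun x hx => hx.1
  have hD'cl : Cfsg.IsStronglyClosed D' (R' : Subgroup H) := by
    refine ⟨hDR, fun x hx g hgx => ⟨hgx, ?_⟩⟩
    exact hD.2 (x : G) hx.2 (g : G) hgx.1
  have hmapD : D'.map H.subtype = R ⊓ D := by
    rw [hD', subgroupOf_map_subtype, inf_eq_left.mpr (inf_le_left.trans inf_le_right)]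
  set N := Cfsg.pPrimeCore p H with hNdef
  have hN : (Nat.card N).Coprime p := Cfsg.Lib.Components.coprime_card_pPrimeCore p
  set π := QuotientGroup.mk' N
  have hs := stable_quotient_of_normalizer hN (normalizerPStable_subgroup hst H)
  have hch := charP_quotient hN hc hNdef
  have hcl := stronglyClosed_map (N := N) R' hD'cl
  have hinj : Set.InjOn π D' := (injOn_mk hN R'.2).mono hDR
  have fin : ∀ (Z : Subgroup H) (Z' : Subgroup G), Z ≤ (R' : Subgroup H) → Z.map H.subtype = Z' →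
      (Z.map π).Normal → ∀ y ∈ H, ∃ n ∈ H ⊓ normalizer (Z' : Set G),
        ∃ k ∈ N.map H.subtype, y = n * k := by
    intro Z Z' hZ hZ' hn y hy
    have htop := sup_normalizer_of_map_normal hN R' hZ hn
    obtain ⟨n, hn', k, hk, hnk⟩ := mem_sup_of_normal_right.mp
      ((sup_comm N (normalizer (Z : Set H)) ▸ htop).ge (mem_top (⟨y, hy⟩ : H)))
    refine ⟨n, ⟨n.2, hZ' ▸ le_normalizer_map H.subtype ⟨n, hn', rfl⟩⟩, k, ⟨k, hk, rfl⟩, ?_⟩
    exact (congrArg Subtype.val hnk).symm
  intro y hy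
  constructor
  · refine fin (Cfsg.centerThompsonAOf D') _ ?_ ?_ ?_ y hy
    · exact (inf_le_left.trans (map_subtype_le _)).trans hDR
    · rw [centerThompsonAOf_map_injOn H.subtype_injective.injOn, hmapD]
    · rw [centerThompsonAOf_map_injOn hinj]
      exact centerThompsonA_normal (S := R'.mapSurjective (QuotientGroup.mk'_surjective N)) hp hs hch hcl
  · refine fin (Cfsg.omegaOne p (Cfsg.centerThompsonOf p D')) _ ?_ ?_ ?_ y hy
    · refine ((closure_le _).mpr fun x hx => ?_).trans hDR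
      exact Cfsg.Lib.Thompson.thompsonSubgroupOf_le D' hx.1.1
    · rw [omegaCenterThompsonOf_map_injOn H.subtype_injective.injOn, hmapD]
    · rw [omegaCenterThompsonOf_map_injOn hinj]
      exact omega_center_thompson_normal (S := R'.mapSurjective (QuotientGroup.mk'_surjective N)) hp hs hch hcl

end Cfsg.Lib.ZJ
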