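import Cfsg.Agent.Components.ZJ.Stable
import Cfsg.Agent.Components.CoprimeKer

/-!
The `ZJ` theorem modulo `O_{p'}(G)`.
-/

set_option linter.style.haveILetI false
set_option linter.unusedSectionVars false

namespace Cfsg.Lib.ZJ

open Subgroup
open scoped commutatorElement

universe u

variable {G : Type u} [Group G] [Finite G] {p : ℕ} [Fact p.Prime]

theorem map_maxAb_injOn {H : Type u} [Group H] {f : G →* H} {D : Subgroup G} (hf : Set.InjOn f D)
    {A : Subgroup G} (hA : A ∈ Cfsg.Lib.Fusion.maxAb D) :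
    A.map f ∈ Cfsg.Lib.Fusion.maxAb (D.map f) := by
  obtain ⟨hle, hc, hmax⟩ := hA
  haveI := hc
  refine ⟨map_mono hle, inferInstance, fun A' h1 h2 => ?_⟩
  set B := D ⊓ A'.comap f
  have hBA : B.map f = A' := by
    refine le_antisymm ((map_mono inf_le_right).trans (map_comap_le f A')) fun y hy => ?_
    obtain ⟨x, hx, rfl⟩ := h1 hy
    exact mem_map_of_mem f ⟨hx, hy⟩
  rw [Cfsg.Lib.Thompson.card_map_of_injOn (hf.mono hle), ← hBA,
    Cfsg.Lib.Thompson.card_map_of_injOn (hf.mono (inf_le_left : B ≤ D))]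
  refine hmax B inf_le_left ⟨⟨fun a b => Subtype.ext (hf (mul_mem a.2.1 b.2.1) (mul_mem b.2.1 a.2.1) ?_)⟩⟩
  haveI := h2
  simp only [Subgroup.coe_mul, map_mul]
  exact congrArg Subtype.val (mul_comm' (⟨f a, a.2.2⟩ : A') ⟨f b, b.2.2⟩)

theorem centerThompsonAOf_map_injOn {H : Type u} [Group H] [Finite H] {f : G →* H} {D : Subgroup G}
    (hf : Set.InjOn f D) :
    (Cfsg.centerThompsonAOf D).map f = Cfsg.centerThompsonAOf (D.map f) := by
  rw [Cfsg.Lib.Fusion.centerThompsonAOf_eq, Cfsg.Lib.Fusion.centerThompsonAOf_eq]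
  have hback : ∀ A' ∈ Cfsg.Lib.Fusion.maxAb (D.map f),
      D ⊓ A'.comap f ∈ Cfsg.Lib.Fusion.maxAb D := by
    rintro A' ⟨h1, h2, hmax⟩
    haveI := h2
    refine ⟨inf_le_left, ⟨⟨fun a b => Subtype.ext (hf (mul_mem a.2.1 b.2.1) (mul_mem b.2.1 a.2.1) ?_)⟩⟩,
      fun A hA hAc => ?_⟩
    · simp only [Subgroup.coe_mul, map_mul]
      exact congrArg Subtype.val (mul_comm' (⟨f a, a.2.2⟩ : A') ⟨f b, b.2.2⟩)
    · haveI := hAc
      have hBA : (D ⊓ A'.comap f).map f = A' := by
        refine le_antisymm ((map_mono inf_le_right).trans (map_comap_le f A')) fun y hy => ?_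
        obtain ⟨x, hx, rfl⟩ := h1 hy
        exact mem_map_of_mem f ⟨hx, hy⟩
      rw [← Cfsg.Lib.Thompson.card_map_of_injOn (hf.mono hA),
        ← Cfsg.Lib.Thompson.card_map_of_injOn (hf.mono (inf_le_left : D ⊓ A'.comap f ≤ D)), hBA]
      exact hmax _ (map_mono hA) inferInstance
  obtain ⟨A₀, hA₀⟩ := Cfsg.Lib.Fusion.maxAb_nonempty (T := D)
  ext y
  constructor
  · rintro ⟨x, hx, rfl⟩
    simp only [SetLike.mem_coe, mem_iInf] at hx ⊢
    exact fun A' hA' => (hx _ (hback A' hA')).2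
  · intro hy
    simp only [mem_iInf] at hy
    obtain ⟨x, hx, rfl⟩ := hy _ (map_maxAb_injOn hf hA₀)
    refine mem_map_of_mem f ?_
    simp only [mem_iInf]
    intro A hA
    obtain ⟨a, ha, hax⟩ := hy _ (map_maxAb_injOn hf hA)
    rw [← hf (hA.1 ha) (hA₀.1 hx) hax]
    exact ha

variable {N : Subgroup G} [N.Normal]

theorem injOn_mk (hN : (Nat.card N).Coprime p) {R : Subgroup G} (hR : IsPGroup p R) :
    Set.InjOn (QuotientGroup.mk' N) R := by
  obtain ⟨r, hr⟩ := IsPGroup.iff_card.mp hR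
  intro x hx y hy h
  exact inv_mul_eq_one.mp (Cfsg.Lib.Coprime.eq_one_of_coprime
    (N := N) (H := R) (by rw [hr]; exact hN.pow_right r) (QuotientGroup.eq.mp h)
    (mul_mem (inv_mem hx) hy))

/-- Frattini: a normal subgroup with a coprime quotient kernel -/
theorem sup_normalizer_inf_eq_top (M : Subgroup G) [M.Normal] (R : Sylow p G) :
    M ⊔ normalizer (((R : Subgroup G) ⊓ M : Subgroup G) : Set G) = ⊤ := by
  have hnd : ¬ p ∣ ((R : Subgroup G).subgroupOf M).index := fun h => R.not_dvd_index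
    (h.trans (Cfsg.Lib.Components.relIndex_dvd_index_of_normal_right (R : Subgroup G) M))
  let T : Sylow p M := (R.2.comap_of_injective M.subtype M.subtype_injective).toSylow hnd
  have hfr := Sylow.normalizer_sup_eq_top T
  rw [show (T : Subgroup M).map M.subtype = (R : Subgroup G) ⊓ M from subgroupOf_map_subtype _ _] at hfr
  rw [sup_comm]; exact hfr

/-- a normal `p`-subgroup of `G/N` is the image of a Sylow intersection -/
theorem map_inf_eq (hN : (Nat.card N).Coprime p) (R : Sylow p G) {B : Subgroup (G ⧸ N)} [B.Normal]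
    (hB : IsPGroup p B) :
    ((R : Subgroup G) ⊓ B.comap (QuotientGroup.mk' N)).map (QuotientGroup.mk' N) = B := by
  set π := QuotientGroup.mk' N
  have hBR : B ≤ (R : Subgroup G).map π := by
    have := Cfsg.Lib.Thompson.le_sylow_of_normal hB (R.mapSurjective (QuotientGroup.mk'_surjective N))
    exact this
  refine le_antisymm ((map_mono inf_le_right).trans (map_comap_le π B)) fun y hy => ?_
  obtain ⟨x, hx, rfl⟩ := hBR hy
  exact mem_map_of_mem π ⟨hx, hy⟩

theorem stable_quotient (hN : (Nat.card N).Coprime p) (hs : Cfsg.IsPStable p G)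
    (hNle : N = Cfsg.pPrimeCore p G) : Stable p (G ⧸ N) := by
  intro B hBn hB ab hab hquad
  set π := QuotientGroup.mk' N
  have hπ : Function.Surjective π := QuotientGroup.mk'_surjective N
  -- a `p`-element above `ab`
  obtain ⟨T⟩ := (inferInstance : Nonempty (Sylow p G))
  obtain ⟨T', hT'⟩ := hab.exists_le_sylow
  obtain ⟨g, hg⟩ := MulAction.exists_smul_eq (G ⧸ N) (T.mapSurjective hπ) T'
  obtain ⟨g, rfl⟩ := hπ g
  set R := g • T
  have hR : (R : Subgroup G).map π = (T' : Subgroup (G ⧸ N)) := by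
    rw [← hg, Cfsg.Lib.Transfer.sylow_smul_coe, Cfsg.Lib.Transfer.sylow_smul_coe]
    show _ = ((T : Subgroup G).map π).map (MulAut.conj (π g)).toMonoidHom
    rw [map_map, map_map]
    congr 1
  obtain ⟨a, ha, rfl⟩ := hR.ge (hT' (mem_zpowers ab))
  set B₀ := (R : Subgroup G) ⊓ B.comap π
  have hB₀ := map_inf_eq hN R hB
  have hB₀p : IsPGroup p B₀ := R.2.to_le inf_le_left
  have hnorm : ∀ u ∈ zpowers a, ∀ x ∈ B₀, u * x * u⁻¹ ∈ B₀ := fun u hu x hx =>
    ⟨(R : Subgroup G).mul_mem ((R : Subgroup G).mul_mem ((zpowers_le.mpr ha) hu) hx.1)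
      ((R : Subgroup G).inv_mem ((zpowers_le.mpr ha) hu)),
      Subgroup.Normal.conj_mem inferInstance x hx.2 u⟩
  have hquad₀ : ⁅⁅B₀, zpowers a⁆, zpowers a⁆ = ⊥ := by
    have hle : ⁅⁅B₀, zpowers a⁆, zpowers a⁆ ≤ (R : Subgroup G) := by
      refine (commutator_mono (commutator_mono inf_le_left (zpowers_le.mpr ha))
        (zpowers_le.mpr ha)).trans ?_
      exact (commutator_mono (commutator_le_self _) le_rfl).trans (commutator_le_self _)
    have h1 : (⁅⁅B₀, zpowers a⁆, zpowers a⁆).map π = ⊥ := by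
      rw [Subgroup.map_commutator, Subgroup.map_commutator, MonoidHom.map_zpowers, hB₀]
      exact hquad
    rw [eq_bot_iff]
    intro x hx
    rw [mem_bot]
    refine injOn_mk hN R.2 (hle hx) (one_mem _) ?_
    rw [map_one]
    exact mem_bot.mp (h1 ▸ mem_map_of_mem π hx)
  have hprod : (Cfsg.pPrimeCore p G ⊔ B₀).Normal := by
    have heq : Cfsg.pPrimeCore p G ⊔ B₀ = B.comap π := by
      subst hNle
      rw [← hB₀, comap_map_eq, QuotientGroup.ker_mk', sup_comm]
    rw [heq]; infer_instance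
  have hBP : B₀ ≤ Cfsg.pPrimePCore p G := by
    subst hNle
    exact le_trans inf_le_right (comap_mono (Cfsg.Lib.Components.le_pCore hB))
  have h := hs.2.2 (zpowers a) B₀ (R.2.to_le (zpowers_le.mpr ha)) hB₀p hnorm hBP hprod hquad₀
  -- map `N(B₀)` onto `G/N`
  have haN : a ∈ normalizer (B₀ : Set G) := mem_normalizer_iff.mpr fun x =>
    ⟨hnorm a (mem_zpowers a) x, fun hx => by
      simpa [mul_assoc] using hnorm a⁻¹ (inv_mem (mem_zpowers a)) _ hx⟩
  have hle : (centralizer (B₀ : Set G)).subgroupOf (normalizer (B₀ : Set G)) ≤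
      (centralizer (B : Set (G ⧸ N))).comap (π.comp (normalizer (B₀ : Set G)).subtype) := by
    intro x hx
    rw [mem_comap, mem_centralizer_iff]
    intro y hy
    obtain ⟨y, hy', rfl⟩ := hB₀.ge hy
    show π y * π (x : G) = π (x : G) * π y
    rw [← map_mul, ← map_mul]
    exact congrArg π (mem_centralizer_iff.mp hx y hy')
  let f := QuotientGroup.map _ _ (π.comp (normalizer (B₀ : Set G)).subtype) hle
  have hf : Function.Surjective f := by
    intro q
    induction q using QuotientGroup.induction_on with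
    | H y =>
      obtain ⟨y, rfl⟩ := hπ y
      haveI : (B.comap π).Normal := inferInstance
      obtain ⟨m, hm, w, hw, rfl⟩ := mem_sup_of_normal_left.mp
        ((sup_normalizer_inf_eq_top (B.comap π) R).ge (mem_top y))
      obtain ⟨b, hb, hbm⟩ := hB₀.ge (show π m ∈ B from hm)
      refine ⟨QuotientGroup.mk (⟨b * w, mul_mem (le_normalizer hb) hw⟩ : normalizer (B₀ : Set G)), ?_⟩
      show QuotientGroup.mk (π (b * w)) = QuotientGroup.mk (π (m * w))
      rw [map_mul, map_mul, hbm]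
  exact map_pCore_le hf (mem_map_of_mem f (h ⟨⟨a, haN⟩, mem_zpowers a, rfl⟩))

theorem charP_quotient (hN : (Nat.card N).Coprime p) (hc : Cfsg.IsPConstrained p G)
    (hNle : N = Cfsg.pPrimeCore p G) :
    centralizer (Cfsg.pCore p (G ⧸ N) : Set (G ⧸ N)) ≤ Cfsg.pCore p (G ⧸ N) := by
  subst hNle
  set π := QuotientGroup.mk' (Cfsg.pPrimeCore p G)
  set M := Cfsg.pPrimePCore p G
  haveI : M.Normal := Subgroup.Normal.comap inferInstance π
  obtain ⟨R⟩ := (inferInstance : Nonempty (Sylow p G))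
  have hnd : ¬ p ∣ ((R : Subgroup G).subgroupOf M).index := fun h => R.not_dvd_index
    (h.trans (Cfsg.Lib.Components.relIndex_dvd_index_of_normal_right (R : Subgroup G) M))
  let P : Sylow p M := (R.2.comap_of_injective M.subtype M.subtype_injective).toSylow hnd
  set B₀ := (R : Subgroup G) ⊓ M
  have hP : (P : Subgroup M).map M.subtype = B₀ := subgroupOf_map_subtype _ _
  have hcM := hc P
  rw [hP] at hcM
  have hB₀ : B₀.map π = Cfsg.pCore p _ :=
    map_inf_eq hN R (Cfsg.Lib.Components.isPGroup_pCore p)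
  intro xb hxb
  obtain ⟨x, rfl⟩ := QuotientGroup.mk'_surjective _ xb
  obtain ⟨m, hm, w, hw, rfl⟩ := mem_sup_of_normal_left.mp
    ((sup_normalizer_inf_eq_top M R).ge (mem_top x))
  obtain ⟨b, hb, hbm⟩ := hB₀.ge (show π m ∈ Cfsg.pCore p _ from hm)
  have hbw : π (b * w) = π (m * w) := by rw [map_mul, map_mul, hbm]
  rw [← hbw] at hxb ⊢
  have hcen : b * w ∈ centralizer (B₀ : Set G) := by
    rw [mem_centralizer_iff]
    intro y hy
    have hy' : b * w * y * (b * w)⁻¹ ∈ B₀ :=
      (mem_normalizer_iff.mp (mul_mem (le_normalizer hb) hw) y).mp hy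
    have h1 := injOn_mk hN (R.2.to_le (inf_le_left : B₀ ≤ R)) hy' hy (by
      have h2 := mem_centralizer_iff.mp hxb (π y) (hB₀.le (mem_map_of_mem π hy))
      rw [map_mul, map_mul (π) (b * w), map_inv, ← h2, mul_inv_cancel_right])
    exact (mul_inv_eq_iff_eq_mul.mp h1).symm
  exact hcM hcen

/-- Glauberman's factorisation `G = O_{p'}(G) N(Z(J(P)))` -/
theorem sup_normalizer_centerThompsonA (hp : p ≠ 2) (hc : Cfsg.IsPConstrained p G)
    (hs : Cfsg.IsPStable p G) (P : Sylow p G) :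
    Cfsg.pPrimeCore p G ⊔ normalizer (Cfsg.centerThompsonAOf (P : Subgroup G) : Set G) = ⊤ := by
  set N := Cfsg.pPrimeCore p G with hNdef
  have hN : (Nat.card N).Coprime p := Cfsg.Lib.Components.coprime_card_pPrimeCore p
  set π := QuotientGroup.mk' N
  have hinj := injOn_mk hN P.2
  have hn := centerThompsonA_normal (S := P.mapSurjective (QuotientGroup.mk'_surjective N)) hp
    (stable_quotient hN hs hNdef) (charP_quotient hN hc hNdef) (stronglyClosed_self _)
  change (Cfsg.centerThompsonAOf ((P : Subgroup G).map π)).Normal at hn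
  rw [← centerThompsonAOf_map_injOn hinj] at hn
  set Z := Cfsg.centerThompsonAOf (P : Subgroup G)
  haveI := hn
  set M := (Z.map π).comap π
  have hM : M = N ⊔ Z := by
    show (Z.map π).comap π = _
    rw [comap_map_eq, QuotientGroup.ker_mk', sup_comm]
  have hZP : Z ≤ (P : Subgroup G) :=
    (inf_le_left : Z ≤ Cfsg.thompsonSubgroupAOf (P : Subgroup G)).trans (map_subtype_le _)
  have hPM : (P : Subgroup G) ⊓ M = Z := by
    refine le_antisymm (fun x hx => ?_) (le_inf hZP (hM ▸ le_sup_right))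
    obtain ⟨z, hz, hzx⟩ := hx.2
    rw [← hinj (hZP hz) hx.1 hzx]
    exact hz
  have hfr := sup_normalizer_inf_eq_top M P
  rw [hPM, hM, sup_assoc, sup_eq_right.mpr le_normalizer] at hfr
  exact hfr

end Cfsg.Lib.ZJ
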