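import Cfsg.Agent.Components.ZJ.Families
import Cfsg.Prelude.Def_LocalEven

/-!
Forms of `p`-stability and consequences of the `ZJ` theorem.
-/

set_option linter.style.haveILetI false
set_option linter.unusedSectionVars false

namespace Cfsg.Lib.ZJ

open Subgroup

variable {G : Type*} [Group G] [Finite G] {p : ℕ} [Fact p.Prime]

theorem map_pCore_le {H : Type*} [Group H] {f : G →* H} (hf : Function.Surjective f) :
    (Cfsg.pCore p G).map f ≤ Cfsg.pCore p H := by
  haveI : ((Cfsg.pCore p G).map f).Normal := Subgroup.Normal.map inferInstance f hf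
  exact Cfsg.Lib.Components.le_pCore ((Cfsg.Lib.Components.isPGroup_pCore p).map f)

theorem stable_of_normalizerPStable (h : Cfsg.IsNormalizerPStable p G) : Stable p G := by
  intro B hBn hB a _ hquad
  have htop : normalizer (B : Set G) = ⊤ := normalizer_eq_top B
  have hmem := h B hB a (htop.symm ▸ mem_top a) hquad
  let f := QuotientGroup.map ((centralizer (B : Set G)).subgroupOf (normalizer (B : Set G)))
    (centralizer (B : Set G)) (normalizer (B : Set G)).subtype le_rfl
  have hf : Function.Surjective f := by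
    intro q
    induction q using QuotientGroup.induction_on with
    | H g => exact ⟨QuotientGroup.mk (⟨g, htop.symm ▸ mem_top g⟩ : normalizer (B : Set G)), rfl⟩
  exact map_pCore_le hf (mem_map_of_mem f hmem)

theorem map_maxAb {H : Type*} [Group H] {e : G ≃* H} (D : Subgroup G) {A : Subgroup G} :
    A.map e.toMonoidHom ∈ Cfsg.Lib.Fusion.maxAb (D.map e.toMonoidHom) ↔
      A ∈ Cfsg.Lib.Fusion.maxAb D := by
  have hcard : ∀ X : Subgroup G, Nat.card (X.map e.toMonoidHom) = Nat.card X := fun X =>
    Subgroup.card_map_of_injective e.injective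
  have hback : ∀ X : Subgroup H, (X.map e.symm.toMonoidHom).map e.toMonoidHom = X := fun X => by
    rw [map_map]
    convert Subgroup.map_id X
    ext y; simp
  constructor
  · rintro ⟨hle, hc, hmax⟩
    haveI := hc
    refine ⟨(map_le_map_iff_of_injective e.injective).mp hle, ?_, fun A' h1 h2 => ?_⟩
    · exact ⟨⟨fun a b => Subtype.ext (e.injective (by
        have := congrArg Subtype.val (mul_comm' (⟨e a, mem_map_of_mem _ a.2⟩ : A.map e.toMonoidHom)
          ⟨e b, mem_map_of_mem _ b.2⟩)
        simpa only [Subgroup.coe_mul, map_mul] using this))⟩⟩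
    · haveI := h2
      rw [← hcard A, ← hcard A']
      exact hmax _ (map_mono h1) inferInstance
  · rintro ⟨hle, hc, hmax⟩
    haveI := hc
    refine ⟨map_mono hle, inferInstance, fun A' h1 h2 => ?_⟩
    haveI := h2
    rw [hcard, ← hback A', hcard]
    refine hmax _ ?_ inferInstance
    rw [← map_le_map_iff_of_injective (f := e.toMonoidHom) e.injective, hback]
    exact h1

theorem centerThompsonAOf_map (e : G ≃* G) (D : Subgroup G) :
    (Cfsg.centerThompsonAOf D).map e.toMonoidHom = Cfsg.centerThompsonAOf (D.map e.toMonoidHom) := by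
  rw [Cfsg.Lib.Fusion.centerThompsonAOf_eq, Cfsg.Lib.Fusion.centerThompsonAOf_eq]
  ext x
  rw [mem_map_equiv]
  simp only [mem_iInf]
  constructor
  · intro h A hA
    have hA' : A.map e.symm.toMonoidHom ∈ Cfsg.Lib.Fusion.maxAb D := by
      have := (map_maxAb (e := e.symm) (D.map e.toMonoidHom) (A := A)).mpr hA
      rwa [map_map, show e.symm.toMonoidHom.comp e.toMonoidHom = MonoidHom.id G from
        MonoidHom.ext fun y => e.symm_apply_apply y, Subgroup.map_id] at this
    obtain ⟨a, ha, hax⟩ := h _ hA'
    rw [show x = a from e.symm.injective (by simpa using hax.symm)]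
    exact ha
  · intro h A hA
    obtain ⟨a, ha, hax⟩ := h _ ((map_maxAb (e := e) D (A := A)).mpr hA)
    rw [← hax]
    simpa using ha

/-- the `ZJ` theorem: characteristic form -/
theorem centerThompsonA_characteristic (hp : p ≠ 2) (hst : Stable p G)
    (hc : centralizer (Cfsg.pCore p G : Set G) ≤ Cfsg.pCore p G) (S : Sylow p G) :
    (Cfsg.centerThompsonAOf (S : Subgroup G)).Characteristic := by
  have hn := centerThompsonA_normal (S := S) hp hst hc (stronglyClosed_self _)
  refine characteristic_iff_map_eq.mpr fun φ => ?_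
  rw [centerThompsonAOf_map]
  have hp' : IsPGroup p ((S : Subgroup G).map φ.toMonoidHom) := S.2.map φ.toMonoidHom
  obtain ⟨T, hT⟩ := hp'.exists_le_sylow
  have hTeq : (S : Subgroup G).map φ.toMonoidHom = T := by
    refine eq_of_le_of_card_ge hT (le_of_eq ?_)
    rw [Subgroup.card_map_of_injective φ.injective]
    exact T.card_eq_multiplicity.trans S.card_eq_multiplicity.symm
  obtain ⟨g, hg⟩ := MulAction.exists_smul_eq G S T
  rw [hTeq, ← hg, Cfsg.Lib.Transfer.sylow_smul_coe, ← centerThompsonAOf_map]
  exact Cfsg.Lib.Transfer.map_conj_eq_self_iff.mpr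
    (by rw [normalizer_eq_top_iff.mpr hn]; exact mem_top g)

theorem pPrimePCore_eq (h1 : Cfsg.pPrimeCore p G = ⊥) : Cfsg.pPrimePCore p G = Cfsg.pCore p G := by
  set π := QuotientGroup.mk' (Cfsg.pPrimeCore p G)
  have hπ : Function.Surjective π := QuotientGroup.mk'_surjective _
  refine le_antisymm ?_ (map_le_iff_le_comap.mp (map_pCore_le hπ))
  haveI : (Cfsg.pPrimePCore p G).Normal := Subgroup.Normal.comap inferInstance π
  exact Cfsg.Lib.Components.le_pCore ((Cfsg.Lib.Components.isPGroup_pCore p).comap_of_ker_isPGroup π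
    (by rw [QuotientGroup.ker_mk', h1]; exact IsPGroup.of_bot))

theorem charP_of_isPConstrained (h1 : Cfsg.pPrimeCore p G = ⊥) (hc : Cfsg.IsPConstrained p G) :
    centralizer (Cfsg.pCore p G : Set G) ≤ Cfsg.pCore p G := by
  have heq := pPrimePCore_eq h1
  obtain ⟨P⟩ := (inferInstance : Nonempty (Sylow p ↥(Cfsg.pPrimePCore p G)))
  have h := hc P
  have hQ : IsPGroup p (Cfsg.pPrimePCore p G) := heq ▸ Cfsg.Lib.Components.isPGroup_pCore p
  have hP : (P : Subgroup ↥(Cfsg.pPrimePCore p G)) = ⊤ :=
    (P.3 (Q := ⊤) (hQ.to_subgroup ⊤) le_top).symm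
  rw [hP, ← MonoidHom.range_eq_map, range_subtype, heq] at h
  exact h

theorem stable_of_isPStable (h1 : Cfsg.pPrimeCore p G = ⊥) (hs : Cfsg.IsPStable p G) : Stable p G := by
  intro B hBn hB a ha hquad
  have htop : normalizer (B : Set G) = ⊤ := normalizer_eq_top B
  have h := hs.2.2 (zpowers a) B ha hB (fun x _ y hy => hBn.conj_mem y hy x)
    (by rw [pPrimePCore_eq h1]; exact Cfsg.Lib.Components.le_pCore hB)
    (by rw [h1, bot_sup_eq]; exact hBn) hquad
  let f := QuotientGroup.map ((centralizer (B : Set G)).subgroupOf (normalizer (B : Set G)))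
    (centralizer (B : Set G)) (normalizer (B : Set G)).subtype le_rfl
  have hf : Function.Surjective f := by
    intro q
    induction q using QuotientGroup.induction_on with
    | H g => exact ⟨QuotientGroup.mk (⟨g, htop.symm ▸ mem_top g⟩ : normalizer (B : Set G)), rfl⟩
  exact map_pCore_le hf (mem_map_of_mem f
    (h ⟨⟨a, htop.symm ▸ mem_top a⟩, mem_zpowers a, rfl⟩))

end Cfsg.Lib.ZJ
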