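import Cfsg.Agent.Components.ZJ.Basic
import Cfsg.Agent.PGroups.Commutators

/-!
The two families behind `Z(J(D))` and `Ω₁(Z(J_e(D)))` for a strongly closed subgroup `D`.
-/

set_option linter.style.haveILetI false
set_option linter.unusedSectionVars false

namespace Cfsg.Lib.ZJ

open Subgroup
open scoped commutatorElement
open Cfsg.Lib.Fusion (maxAb replaceBy ReplSetup)
open Cfsg.Lib.Thompson (IsMaxElem)

variable {G : Type*} [Group G] [Finite G] {p : ℕ} [Fact p.Prime]

/-- the elementary abelian subgroups of largest order -/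
def maxEl (p : ℕ) (D : Subgroup G) : Set (Subgroup G) := {A | IsMaxElem p D A}

theorem stronglyClosed_self (P : Subgroup G) : Cfsg.IsStronglyClosed P P :=
  ⟨le_rfl, fun _ _ _ h => h⟩

theorem le_normalizer_of_stronglyClosed {D : Subgroup G} {P : Subgroup G}
    (hD : Cfsg.IsStronglyClosed D P) : P ≤ normalizer (D : Set G) := fun u hu =>
  mem_normalizer_iff.mpr fun x => ⟨fun hx => hD.2 x hx u (mul_mem (mul_mem hu (hD.1 hx)) (inv_mem hu)),
    fun hx => by
      have h := hD.2 _ hx u⁻¹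
        (mul_mem (mul_mem (inv_mem hu) (hD.1 hx)) (inv_mem (inv_mem hu)))
      simpa [mul_assoc] using h⟩

theorem maxEl_nonempty (D : Subgroup G) : (maxEl p D).Nonempty :=
  Cfsg.Lib.Thompson.exists_isMaxElem D

theorem isElementaryAbelian_replaceBy {A B : Subgroup G} {b : G} (h : ReplSetup p A B b) (hp : p ≠ 2)
    (hA : ∀ a ∈ A, a ^ p = 1) : Cfsg.IsElementaryAbelian p (replaceBy A b) := by
  refine ⟨h.isMulCommutative_replaceBy, fun x hx => ?_⟩
  obtain ⟨a, ha, d, hd, rfl⟩ := h.exists_rep hx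
  rw [(h.commute_diff hd ha).symm.mul_pow, hA d hd.1, one_mul]
  set v := b * a * b⁻¹
  have he : ⁅a⁻¹, v⁆ ∈ A ⊓ A.map (MulAut.conj b).toMonoidHom := h.e_mem (inv_mem ha) ha
  have he' : ⁅v, a⁻¹⁆ ∈ A ⊓ A.map (MulAut.conj b).toMonoidHom := by
    rw [← commutatorElement_inv]; exact Subgroup.inv_mem _ he
  rw [Cfsg.Lib.PGroups.mul_pow_of_commute_commutator (x := a⁻¹) (y := v)
    (h.commute_left he' (inv_mem ha)).symm (h.commute_right he' ha).symm, hA _ (inv_mem ha), one_mul,
    conj_pow, hA a ha, mul_one, mul_inv_cancel, one_mul]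
  obtain ⟨m, hm⟩ := Cfsg.Lib.PGroups.dvd_choose_two (Fact.out : p.Prime) hp
  rw [hm, pow_mul, hA _ he'.1, one_pow]

/-- replacement for elementary abelian subgroups of largest order of a normal subgroup `D` -/
theorem exists_maxEl_normalized (hp : p ≠ 2) {T D B : Subgroup G}
    (hT : IsPGroup p T) (hBT : B ≤ T) (hTB : T ≤ normalizer (B : Set G))
    (hDT : D ≤ T) (hTD : T ≤ normalizer (D : Set G))
    (h : ∃ A ∈ maxEl p D, ⁅B, B⁆ ≤ A ∧ ¬ B ≤ A) :
    ∃ A ∈ maxEl p D, ¬ B ≤ A ∧ B ≤ normalizer (A : Set G) := by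
  obtain ⟨A, ⟨hA, hder, hnle⟩, hmax⟩ := Set.exists_max_image
    {A | A ∈ maxEl p D ∧ ⁅B, B⁆ ≤ A ∧ ¬ B ≤ A} (fun A => Nat.card ↥(A ⊓ B)) (Set.toFinite _)
    (let ⟨A, h1, h2⟩ := h; ⟨A, h1, h2⟩)
  refine ⟨A, hA, hnle, ?_⟩
  by_contra hN
  set N := T ⊓ normalizer (A : Set G)
  have hNB : N ≤ normalizer (B : Set G) := inf_le_left.trans hTB
  have hlt : N < B ⊔ N := lt_of_le_of_ne le_sup_right fun e => hN fun x hx =>
    (show x ∈ N from e ▸ mem_sup_left hx).2
  obtain ⟨x, hx, hxN⟩ := SetLike.exists_of_lt (Cfsg.Lib.Fusion.lt_inf_normalizer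
    (hT.to_le (sup_le hBT inf_le_left)) hlt le_rfl)
  have hxset : x ∈ ((B ⊔ N : Subgroup G) : Set G) := hx.1
  rw [Subgroup.coe_mul_of_right_le_normalizer_left B N hNB] at hxset
  obtain ⟨b, hb, n, hn, rfl⟩ := hxset
  have hbN : b ∈ normalizer (N : Set G) := by
    simpa using Subgroup.mul_mem _ hx.2 (Subgroup.inv_mem _ (Subgroup.le_normalizer hn))
  have hbA : b ∉ normalizer (A : Set G) := fun hb' =>
    hxN (Subgroup.mul_mem _ ⟨hBT hb, hb'⟩ hn)
  obtain ⟨k, hk⟩ := hT ⟨b, hBT hb⟩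
  have S : ReplSetup p A B b :=
    { comm := hA.2.1.1
      normB := (hA.1.trans hDT).trans hTB
      derived := hder
      mem := hb
      prime := Fact.out
      pA := hT.to_le (hA.1.trans hDT)
      pow := ⟨k, congrArg Subtype.val hk⟩
      odd := Or.inl hp
      conjN := fun a ha =>
        ((mem_normalizer_iff.mp hbN a).mp ⟨hDT (hA.1 ha), le_normalizer ha⟩).2 }
  have hA'T : replaceBy A b ≤ D := sup_le (inf_le_left.trans hA.1) ((closure_le _).mpr (by
    rintro _ ⟨a, ha, rfl⟩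
    exact D.mul_mem (D.inv_mem (hA.1 ha))
      ((mem_normalizer_iff.mp (hTD (hBT hb)) a).mp (hA.1 ha))))
  have hmem : replaceBy A b ∈ maxEl p D := ⟨hA'T, isElementaryAbelian_replaceBy S hp hA.2.1.2,
    fun A' h1 h2 => S.card_replaceBy.symm ▸ hA.2.2 A' h1 h2⟩
  have hlt := S.inf_lt_replaceBy hbA
  have h1 := hmax (replaceBy A b) ⟨hmem, S.derived_le.trans le_sup_left, fun hle =>
    hbA (S.replaceBy_le_normalizer (hle hb))⟩
  exact hlt.ne (Subgroup.eq_of_le_of_card_ge hlt.le h1)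

variable {S : Sylow p G} {D : Subgroup G}

theorem map_conj_le (hD : Cfsg.IsStronglyClosed D (S : Subgroup G)) {A : Subgroup G} (hA : A ≤ D) {g : G}
    (h : A.map (MulAut.conj g).toMonoidHom ≤ (S : Subgroup G)) :
    A.map (MulAut.conj g).toMonoidHom ≤ D := by
  rintro _ ⟨a, ha, rfl⟩
  exact hD.2 a (hA ha) g (h ⟨a, ha, rfl⟩)

theorem family_maxAb (hp : p ≠ 2) (hD : Cfsg.IsStronglyClosed D (S : Subgroup G)) :
    Family S (maxAb D) where
  mem A hA := ⟨hA.1.trans hD.1, hA.2.1⟩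
  nonempty := Cfsg.Lib.Fusion.maxAb_nonempty
  inv g A hA h := by
    haveI := hA.2.1
    refine ⟨map_conj_le hD hA.1 h, inferInstance, fun A' h1 h2 => ?_⟩
    rw [Cfsg.Lib.Transfer.card_map_conj]
    exact hA.2.2 A' h1 h2
  rep B hB hSB _ h := by
    obtain ⟨A, hA, -, h1, h2⟩ := Cfsg.Lib.Fusion.exists_maxAb_normalized_of_normal hp S.2 hB hSB hD.1
      (le_normalizer_of_stronglyClosed hD) h
    exact ⟨A, hA, h1, h2⟩

theorem family_maxEl (hp : p ≠ 2) (hD : Cfsg.IsStronglyClosed D (S : Subgroup G)) :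
    Family S (maxEl p D) where
  mem A hA := ⟨hA.1.trans hD.1, hA.2.1.1⟩
  nonempty := maxEl_nonempty D
  inv g A hA h := by
    refine ⟨map_conj_le hD hA.1 h,
      (Cfsg.Lib.Thompson.isElementaryAbelian_map_iff (MulAut.conj g).injective.injOn).mpr hA.2.1,
      fun A' h1 h2 => ?_⟩
    rw [Cfsg.Lib.Transfer.card_map_conj]
    exact hA.2.2 A' h1 h2
  rep B hB hSB _ h := exists_maxEl_normalized hp S.2 hB hSB hD.1
      (le_normalizer_of_stronglyClosed hD) h

/-- `Ω₁(Z(J_e(D)))` is the intersection of the family -/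
theorem omega_center_thompson_eq (D : Subgroup G) :
    Cfsg.omegaOne p (Cfsg.centerThompsonOf p D) = ⨅ A ∈ maxEl p D, A := by
  have hJ : Cfsg.thompsonSubgroupOf p D = sSup (maxEl p D) :=
    Cfsg.Lib.Thompson.thompsonSubgroupOf_eq D
  refine le_antisymm ((closure_le _).mpr ?_) ?_
  · rintro z ⟨hz, hzp⟩
    simp only [SetLike.mem_coe, mem_iInf]
    intro A hA
    have hzD : z ∈ D := Cfsg.Lib.Thompson.thompsonSubgroupOf_le D hz.1
    have hcz : ∀ a ∈ A, a * z = z * a := fun a ha =>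
      mem_centralizer_iff.mp hz.2 a (hJ.symm ▸ (le_sSup hA : A ≤ sSup (maxEl p D)) ha)
    have hcA := hA.2.1.1
    have hle : A ⊔ zpowers z ≤ D := sup_le hA.1 (zpowers_le.mpr hzD)
    have hEl : Cfsg.IsElementaryAbelian p (A ⊔ zpowers z) := by
      have hgen : A ⊔ zpowers z = closure ((A : Set G) ∪ {z}) := by
        rw [Subgroup.closure_union, closure_eq, zpowers_eq_closure]
      have hc : IsMulCommutative ↥(A ⊔ zpowers z) := by
        rw [hgen]
        refine isMulCommutative_closure ?_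
        rintro a (ha | ha) b (hb | hb)
        · exact congrArg Subtype.val (hcA.is_comm.comm (⟨a, ha⟩ : A) ⟨b, hb⟩)
        · rw [Set.mem_singleton_iff] at hb
          exact hb ▸ hcz a ha
        · rw [Set.mem_singleton_iff] at ha
          exact ha ▸ (hcz b hb).symm
        · rw [Set.mem_singleton_iff] at ha hb
          rw [ha, hb]
      refine ⟨hc, fun x hx => ?_⟩
      rw [hgen] at hx hc
      haveI := hc
      induction hx using closure_induction with
      | mem y hy =>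
        rcases hy with hy | hy
        · exact hA.2.1.2 y hy
        · rw [Set.mem_singleton_iff] at hy
          rw [hy, hzp]
      | one => exact one_pow p
      | mul u v hu hv hu' hv' =>
        rw [(show Commute u v from congrArg Subtype.val
          (mul_comm' (⟨u, hu⟩ : closure ((A : Set G) ∪ {z})) ⟨v, hv⟩)).mul_pow, hu', hv', one_mul]
      | inv u _ hu' => rw [inv_pow, hu', inv_one]
    have heq : A = A ⊔ zpowers z :=
      Subgroup.eq_of_le_of_card_ge le_sup_left (hA.2.2 _ hle hEl)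
    rw [heq]
    exact mem_sup_right (mem_zpowers z)
  · obtain ⟨A₀, hA₀⟩ := maxEl_nonempty (p := p) D
    intro z hz
    simp only [mem_iInf] at hz
    refine subset_closure ⟨⟨?_, ?_⟩, hA₀.2.1.2 z (hz A₀ hA₀)⟩
    · rw [hJ]; exact (le_sSup hA₀ : A₀ ≤ sSup (maxEl p D)) (hz A₀ hA₀)
    · rw [hJ]
      have hle : sSup (maxEl p D) ≤ centralizer ({z} : Set G) := sSup_le fun A hA a ha =>
        mem_centralizer_singleton_iff.mpr
          (congrArg Subtype.val (hA.2.1.1.is_comm.comm (⟨a, ha⟩ : A) ⟨z, hz A hA⟩))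
      exact mem_centralizer_iff.mpr fun a ha => mem_centralizer_singleton_iff.mp (hle ha)

/-- Glauberman's theorem for `Z(J(D))` -/
theorem centerThompsonA_normal (hp : p ≠ 2) (hst : Stable p G)
    (hc : centralizer (Cfsg.pCore p G : Set G) ≤ Cfsg.pCore p G)
    (hD : Cfsg.IsStronglyClosed D (S : Subgroup G)) : (Cfsg.centerThompsonAOf D).Normal := by
  rw [Cfsg.Lib.Fusion.centerThompsonAOf_eq]
  exact inter_normal hst hc (family_maxAb hp hD)

/-- Glauberman's theorem for `Ω₁(Z(J_e(D)))` -/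
theorem omega_center_thompson_normal (hp : p ≠ 2) (hst : Stable p G)
    (hc : centralizer (Cfsg.pCore p G : Set G) ≤ Cfsg.pCore p G)
    (hD : Cfsg.IsStronglyClosed D (S : Subgroup G)) :
    (Cfsg.omegaOne p (Cfsg.centerThompsonOf p D)).Normal := by
  rw [omega_center_thompson_eq]
  exact inter_normal hst hc (family_maxEl hp hD)

end Cfsg.Lib.ZJ
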