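import Cfsg.Agent.Components.ZJ.ControlD
import Cfsg.Agent.Components.Qd.Free

/-!
`Z(J(D))` and `Ω₁(Z(J_e(D)))` control strong fusion in groups without `Qd(p)`.
-/

set_option autoImplicit false
set_option linter.style.haveILetI false
set_option linter.unusedSectionVars false

namespace Cfsg.Lib.CtrlD

open Subgroup
open Cfsg.Lib.Functor (IsSection)

universe u

variable {p : ℕ} [Fact p.Prime]

/-- `Q ↦ Z(J(Q))` -/
def zjW (Q : Type u) [Group Q] : Subgroup Q := Cfsg.centerThompsonAOf (⊤ : Subgroup Q)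

/-- `Q ↦ Ω₁(Z(J_e(Q)))` -/
def omW (p : ℕ) (Q : Type u) [Group Q] : Subgroup Q :=
  Cfsg.omegaOne p (Cfsg.centerThompsonOf p (⊤ : Subgroup Q))

theorem induced_zjW {G : Type u} [Group G] [Finite G] (T : Subgroup G) :
    Cfsg.inducedFunctor (G := G) (fun Q _ => zjW Q) T = Cfsg.centerThompsonAOf T := by
  show (Cfsg.centerThompsonAOf (⊤ : Subgroup T)).map T.subtype = _
  rw [Cfsg.Lib.ZJ.centerThompsonAOf_map_injOn T.subtype_injective.injOn, ← MonoidHom.range_eq_map, range_subtype]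

theorem induced_omW {G : Type u} [Group G] [Finite G] (T : Subgroup G) :
    Cfsg.inducedFunctor (G := G) (fun Q _ => omW p Q) T = Cfsg.omegaOne p (Cfsg.centerThompsonOf p T) := by
  show (Cfsg.omegaOne p (Cfsg.centerThompsonOf p (⊤ : Subgroup T))).map T.subtype = _
  rw [Cfsg.Lib.ZJ.omegaCenterThompsonOf_map_injOn T.subtype_injective.injOn, ← MonoidHom.range_eq_map,
    range_subtype]

theorem zjW_charP : Cfsg.IsCharPFunctor.{u} p (fun Q _ => zjW Q) := by
  refine ⟨fun Q _ _ hQ _ => Cfsg.Lib.ZJ.centerThompsonAOf_ne_bot (hQ.of_equiv Subgroup.topEquiv.symm) top_ne_bot,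
    fun Q R _ _ _ _ φ => ?_⟩
  haveI : Finite R := Finite.of_equiv Q φ.toEquiv
  show (Cfsg.centerThompsonAOf ⊤).map _ = Cfsg.centerThompsonAOf ⊤
  rw [Cfsg.Lib.ZJ.centerThompsonAOf_map_injOn φ.injective.injOn,
    Subgroup.map_top_of_surjective (f := φ.toMonoidHom) φ.surjective]

theorem omW_charP : Cfsg.IsCharPFunctor.{u} p (fun Q _ => omW p Q) := by
  refine ⟨fun Q _ _ hQ _ => Cfsg.Lib.ZJ.omega_ne_bot (hQ.of_equiv Subgroup.topEquiv.symm) top_ne_bot,
    fun Q R _ _ _ _ φ => ?_⟩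
  haveI : Finite R := Finite.of_equiv Q φ.toEquiv
  show (Cfsg.omegaOne p (Cfsg.centerThompsonOf p ⊤)).map _ = Cfsg.omegaOne p (Cfsg.centerThompsonOf p ⊤)
  rw [Cfsg.Lib.ZJ.omegaCenterThompsonOf_map_injOn φ.injective.injOn,
    Subgroup.map_top_of_surjective (f := φ.toMonoidHom) φ.surjective]

variable {G : Type u} [Group G] [Finite G]

theorem stable_section (hp : p ≠ 2) (hqd : ¬ Cfsg.Involves ↥(Cfsg.qd p) G) {L : Type u} [Group L] [Finite L]
    (hL : IsSection L G) : Cfsg.Lib.ZJ.Stable p L := by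
  refine Cfsg.Lib.ZJ.stable_of_isPStableOn fun B _ hB =>
    Cfsg.Lib.QuadPair.stable_of_qd_free hp _ L (fun h => hqd ?_) B hB rfl
  obtain ⟨K, f, hf⟩ := hL
  exact Cfsg.Lib.QdFree.involves_of_injective K.subtype_injective
    (Cfsg.Lib.QuadPair.involves_of_surjective hf h)

/-- **Glauberman's `ZJ` theorem for fusion** -/
theorem ctl_of_qd_free (hp : p ≠ 2) (hqd : ¬ Cfsg.Involves ↥(Cfsg.qd p) G) :
    Ctl p (fun Q _ => zjW Q) G ∧ Ctl p (fun Q _ => omW p Q) G := by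
  refine ⟨ctl_main zjW_charP _ G rfl fun L _ _ hL hc T D hD => ?_,
    ctl_main omW_charP _ G rfl fun L _ _ hL hc T D hD => ?_⟩
  · rw [induced_zjW]
    exact Cfsg.Lib.ZJ.centerThompsonA_normal (S := T) hp (stable_section hp hqd hL) hc hD
  · rw [induced_omW]
    exact Cfsg.Lib.ZJ.omega_center_thompson_normal (S := T) hp (stable_section hp hqd hL) hc hD

theorem controls_zj (hp : p ≠ 2) (hqd : ¬ Cfsg.Involves ↥(Cfsg.qd p) G) (P : Sylow p G) :
    Cfsg.ControlsStrongFusion p (Cfsg.centerThompsonAOf (P : Subgroup G)) :=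
  induced_zjW (P : Subgroup G) ▸ controlsStrongFusion (ctl_of_qd_free hp hqd).1 P

end Cfsg.Lib.CtrlD
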