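import Cfsg.Agent.Components.LBalance
import Cfsg.Agent.Fusion.GTApply
import Cfsg.Agent.Thompson.Subgroup
import Cfsg.Agent.Thompson.PComplement
import Cfsg.Agent.Transfer.Frobenius

/-!
Glauberman's `ZJ` theorem for a family of abelian subgroups of a Sylow subgroup.
-/

set_option linter.style.haveILetI false
set_option linter.unusedSectionVars false

namespace Cfsg.Lib.ZJ

open Subgroup
open scoped commutatorElement

variable {G : Type*} [Group G] [Finite G] {p : ℕ} [Fact p.Prime]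

/-- the action on normal `p`-subgroups is `p`-stable -/
def Stable (p : ℕ) (G : Type*) [Group G] : Prop :=
  ∀ (B : Subgroup G) [B.Normal], IsPGroup p B → ∀ a : G, IsPGroup p (zpowers a) →
    ⁅⁅B, zpowers a⁆, zpowers a⁆ = ⊥ →
      (QuotientGroup.mk a : G ⧸ centralizer (B : Set G)) ∈ Cfsg.pCore p (G ⧸ centralizer (B : Set G))

theorem stable_of_isPStableOn (h : ∀ (B : Subgroup G) [B.Normal], IsPGroup p B → Cfsg.IsPStableOn p B) :
    Stable p G := fun B _ hB a _ hq => h B hB a hq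

/-- a family of abelian subgroups of `S` with fusion invariance and replacement -/
structure Family (S : Sylow p G) (𝒜 : Set (Subgroup G)) : Prop where
  mem : ∀ A ∈ 𝒜, A ≤ (S : Subgroup G) ∧ IsMulCommutative A
  nonempty : 𝒜.Nonempty
  inv : ∀ g : G, ∀ A ∈ 𝒜, A.map (MulAut.conj g).toMonoidHom ≤ (S : Subgroup G) →
    A.map (MulAut.conj g).toMonoidHom ∈ 𝒜
  rep : ∀ B : Subgroup G, B ≤ (S : Subgroup G) → (S : Subgroup G) ≤ normalizer (B : Set G) →
    ⁅⁅B, B⁆, B⁆ = ⊥ → (∃ A ∈ 𝒜, ⁅B, B⁆ ≤ A ∧ ¬ B ≤ A) →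
    ∃ A ∈ 𝒜, ¬ B ≤ A ∧ B ≤ normalizer (A : Set G)

theorem commutator_zpowers_le {B A : Subgroup G} (h : B ≤ normalizer (A : Set G)) {a : G} (ha : a ∈ A) :
    ⁅B, zpowers a⁆ ≤ A := by
  rw [commutator_le]
  intro b hb c hc
  have hcA : c ∈ A := (zpowers_le.mpr ha) hc
  rw [commutatorElement_def]
  exact mul_mem ((mem_normalizer_iff.mp (h hb) c).mp hcA) (inv_mem hcA)

theorem quadratic_of_normalizes {B A : Subgroup G} [IsMulCommutative A]
    (h : B ≤ normalizer (A : Set G)) {a : G} (ha : a ∈ A) :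
    ⁅⁅B, zpowers a⁆, zpowers a⁆ = ⊥ := by
  rw [eq_bot_iff, commutator_le]
  intro x hx y hy
  rw [mem_bot, commutatorElement_eq_one_iff_mul_comm]
  exact congrArg Subtype.val
    (mul_comm' (⟨x, commutator_zpowers_le h ha hx⟩ : A) ⟨y, (zpowers_le.mpr ha) hy⟩)

variable {S : Sylow p G} {𝒜 : Set (Subgroup G)}

theorem Family.inter_le (h : Family S 𝒜) : (⨅ A ∈ 𝒜, A) ≤ (S : Subgroup G) := by
  obtain ⟨A, hA⟩ := h.nonempty
  exact (iInf₂_le A hA).trans (h.mem A hA).1

theorem Family.inter_comm (h : Family S 𝒜) {x y : G} (hx : x ∈ ⨅ A ∈ 𝒜, A) (hy : y ∈ ⨅ A ∈ 𝒜, A) :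
    x * y = y * x := by
  obtain ⟨A, hA⟩ := h.nonempty
  haveI := (h.mem A hA).2
  exact congrArg Subtype.val (mul_comm' (⟨x, (iInf₂_le A hA : (⨅ A ∈ 𝒜, A) ≤ A) hx⟩ : A) ⟨y, (iInf₂_le A hA : (⨅ A ∈ 𝒜, A) ≤ A) hy⟩)

theorem Family.conj_inter_mem (h : Family S 𝒜) {D : Subgroup G} (hD : D ≤ (S : Subgroup G))
    {g : G} (hg : g ∈ normalizer (D : Set G)) {x : G}
    (hx : ∀ A ∈ 𝒜, A ≤ D → x ∈ A) : ∀ A ∈ 𝒜, A ≤ D → g * x * g⁻¹ ∈ A := by
  intro A hA hAD
  set A' := A.map (MulAut.conj g⁻¹).toMonoidHom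
  have hle : A' ≤ D := by
    rintro _ ⟨a, ha, rfl⟩
    exact (mem_normalizer_iff.mp (inv_mem hg) a).mp (hAD ha)
  obtain ⟨a, ha, hax⟩ := hx A' (h.inv g⁻¹ A hA (hle.trans hD)) hle
  have e : g * x * g⁻¹ = a := by
    rw [← hax]
    simp [mul_assoc]
  rw [e]; exact ha

theorem Family.sylow_le_normalizer (h : Family S 𝒜) :
    (S : Subgroup G) ≤ normalizer ((⨅ A ∈ 𝒜, A : Subgroup G) : Set G) := by
  have key : ∀ g ∈ (S : Subgroup G), ∀ x ∈ (⨅ A ∈ 𝒜, A), g * x * g⁻¹ ∈ (⨅ A ∈ 𝒜, A) := by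
    intro g hg x hx
    simp only [mem_iInf] at hx ⊢
    exact fun A hA => h.conj_inter_mem le_rfl (le_normalizer hg) (fun A hA _ => hx A hA) A hA
      (h.mem A hA).1
  exact fun g hg => mem_normalizer_iff.mpr fun x => ⟨key g hg x, fun hx => by
    simpa [mul_assoc] using key g⁻¹ (inv_mem hg) _ hx⟩

/-- the preimage of `O_p(G/C)` is `C` times its Sylow subgroup, and Frattini -/
theorem sup_normalizer_eq_top (S : Sylow p G) (C : Subgroup G) [C.Normal] :
    C ⊔ normalizer (((S : Subgroup G) ⊓ (Cfsg.pCore p (G ⧸ C)).comap (QuotientGroup.mk' C) :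
      Subgroup G) : Set G) = ⊤ := by
  set π := QuotientGroup.mk' C
  set L := (Cfsg.pCore p (G ⧸ C)).comap π
  haveI : L.Normal := inferInstance
  have hCL : C ≤ L := fun x hx => by
    rw [mem_comap, show π x = 1 from (QuotientGroup.eq_one_iff x).mpr hx]; exact one_mem _
  have hnd : ¬ p ∣ ((S : Subgroup G).subgroupOf L).index := fun h => S.not_dvd_index
    (h.trans (Cfsg.Lib.Components.relIndex_dvd_index_of_normal_right (S : Subgroup G) L))
  let T : Sylow p L := (S.2.comap_of_injective L.subtype L.subtype_injective).toSylow hnd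
  have hT : (T : Subgroup L).map L.subtype = (S : Subgroup G) ⊓ L := subgroupOf_map_subtype _ _
  have hfr := Sylow.normalizer_sup_eq_top T
  rw [hT] at hfr
  have hL : L ≤ C ⊔ normalizer (((S : Subgroup G) ⊓ L : Subgroup G) : Set G) := by
    refine le_trans ?_ (sup_le_sup_left le_normalizer C)
    rw [← relIndex_eq_one]
    obtain ⟨j, hj⟩ := IsPGroup.iff_card.mp (Cfsg.Lib.Components.isPGroup_pCore (G := G ⧸ C) p)
    have hCidx : C.relIndex L = p ^ j := by
      have h := Subgroup.relIndex_ker L π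
      rw [QuotientGroup.ker_mk', map_comap_eq_self_of_surjective (QuotientGroup.mk'_surjective C), hj] at h
      exact h
    have hle : C ⊔ (S : Subgroup G) ⊓ L ≤ L := sup_le hCL inf_le_right
    have h1 : (C ⊔ (S : Subgroup G) ⊓ L).relIndex L ∣ p ^ j :=
      hCidx ▸ Subgroup.relIndex_dvd_of_le_left L le_sup_left
    have h2 : (C ⊔ (S : Subgroup G) ⊓ L).relIndex L ∣ ((S : Subgroup G).subgroupOf L).index := by
      rw [show ((S : Subgroup G).subgroupOf L).index = ((S : Subgroup G) ⊓ L).relIndex L from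
        (inf_relIndex_right (S : Subgroup G) L).symm]
      exact Subgroup.relIndex_dvd_of_le_left L le_sup_right
    obtain ⟨i, -, hi⟩ := (Nat.dvd_prime_pow Fact.out).mp h1
    rcases Nat.eq_zero_or_pos i with rfl | hi0
    · rw [hi, pow_zero]
    · exact absurd ((dvd_pow_self p hi0.ne').trans (hi ▸ h2)) hnd
  rw [eq_top_iff, ← hfr]
  exact sup_le le_sup_right hL

/-- **Glauberman**: `Z ∩ B` is normal for every normal `p`-subgroup `B` -/
theorem inter_inf_normal (hst : Stable p G) (h : Family S 𝒜) :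
    ∀ n, ∀ B : Subgroup G, Nat.card B = n → B.Normal → IsPGroup p B →
      ((⨅ A ∈ 𝒜, A) ⊓ B).Normal := by
  intro n
  induction n using Nat.strong_induction_on with
  | _ n ih =>
  intro B hn hBn hBp
  haveI := hBn
  set Z := ⨅ A ∈ 𝒜, A with hZdef
  have hZS := h.inter_le
  have hSZ := h.sylow_le_normalizer
  have hBS : B ≤ (S : Subgroup G) := Cfsg.Lib.Thompson.le_sylow_of_normal hBp S
  by_cases hB1 : normalClosure ((Z ⊓ B : Subgroup G) : Set G) = B
  swap
  · set B₁ := normalClosure ((Z ⊓ B : Subgroup G) : Set G)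
    have hle : B₁ ≤ B := normalClosure_le_normal inf_le_right
    have hlt : Nat.card B₁ < n := by
      rw [← hn]
      exact lt_of_le_of_ne (card_le_of_le hle) fun e => hB1 (eq_of_le_of_card_ge hle e.ge)
    have := ih _ hlt B₁ rfl inferInstance (hBp.to_le hle)
    rwa [show Z ⊓ B₁ = Z ⊓ B from le_antisymm (inf_le_inf_left Z hle)
      (le_inf inf_le_left subset_normalClosure)] at this
  by_cases hBne : B = ⊥
  · rw [hBne, inf_bot_eq]; infer_instance
  haveI := (nontrivial_iff_ne_bot B).mpr hBne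
  haveI := hBp.isNilpotent
  have hBlt : ⁅B, B⁆ < B := by
    refine lt_of_le_of_ne (commutator_le_right B B) fun e => ?_
    have h1 := Group.IsSolvable.commutator_lt_top_of_nontrivial B
    apply h1.ne
    apply map_injective B.subtype_injective
    rw [map_subtype_commutator, e, ← MonoidHom.range_eq_map, range_subtype]
  haveI hZB' : (Z ⊓ ⁅B, B⁆).Normal := ih _
    (hn ▸ lt_of_le_of_ne (card_le_of_le hBlt.le) fun e => hBlt.ne (eq_of_le_of_card_ge hBlt.le e.ge))
    _ rfl inferInstance (hBp.to_le hBlt.le)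
  -- `B' ≤ Z`
  have hBBZ : ⁅B, B⁆ ≤ Z ⊓ ⁅B, B⁆ := by
    set π := QuotientGroup.mk' (Z ⊓ ⁅B, B⁆)
    have hle : B ≤ (centralizer ((B.map π : Subgroup _) : Set _)).comap π := by
      conv_lhs => rw [← hB1]
      refine normalClosure_le_normal fun z hz => ?_
      rw [SetLike.mem_coe, mem_comap, mem_centralizer_iff]
      rintro _ ⟨b, hb, rfl⟩
      refine commutatorElement_eq_one_iff_mul_comm.mp ?_
      rw [← map_commutatorElement]
      refine (QuotientGroup.eq_one_iff _).mpr ⟨?_, commutator_mem_commutator hb hz.2⟩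
      rw [commutatorElement_def]
      exact Subgroup.mul_mem Z ((mem_normalizer_iff.mp (hSZ (hBS hb)) z).mp hz.1) (Subgroup.inv_mem Z hz.1)
    rw [commutator_le]
    intro x hx y hy
    rw [← QuotientGroup.eq_one_iff (N := Z ⊓ ⁅B, B⁆)]
    show π ⁅x, y⁆ = 1
    rw [map_commutatorElement]
    exact commutatorElement_eq_one_iff_mul_comm.mpr
      (mem_centralizer_iff.mp (hle hx) _ ⟨y, hy, rfl⟩).symm
  have hBBZ' : ⁅B, B⁆ ≤ Z := hBBZ.trans inf_le_left
  have hcl : ⁅⁅B, B⁆, B⁆ = ⊥ := by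
    have hle : B ≤ centralizer ((⁅B, B⁆ : Subgroup G) : Set G) := by
      conv_lhs => rw [← hB1]
      refine normalClosure_le_normal fun z hz => ?_
      exact mem_centralizer_iff.mpr fun c hc => h.inter_comm (hBBZ' hc) hz.1
    rw [commutator_eq_bot_iff_le_centralizer]
    exact fun c hc => mem_centralizer_iff.mpr fun b hb =>
      (mem_centralizer_iff.mp (hle hb) c hc).symm
  set C := centralizer (B : Set G)
  haveI : C.Normal := inferInstance
  set L := (Cfsg.pCore p (G ⧸ C)).comap (QuotientGroup.mk' C)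
  -- members normalized by `B` lie in `L`
  have hquad : ∀ A ∈ 𝒜, B ≤ normalizer (A : Set G) → A ≤ (S : Subgroup G) ⊓ L := by
    intro A hA hBA
    refine le_inf (h.mem A hA).1 fun a ha => ?_
    haveI := (h.mem A hA).2
    exact hst B hBp a (S.2.to_le (zpowers_le.mpr ((h.mem A hA).1 ha))) (quadratic_of_normalizes hBA ha)
  have hCL : C ≤ L := fun x hx => by
    rw [mem_comap, show QuotientGroup.mk' C x = 1 from (QuotientGroup.eq_one_iff x).mpr hx]
    exact one_mem _
  -- `B` lies in every member inside `S ∩ L`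
  have hBA : ∀ A ∈ 𝒜, A ≤ (S : Subgroup G) ⊓ L → B ≤ A := by
    intro A hA hAL b hb
    rw [← hB1] at hb
    have key : ∀ y : G, y ∈ normalClosure ((Z ⊓ B : Subgroup G) : Set G) → y ∈ A := by
      intro y hy
      refine closure_induction (p := fun z _ => z ∈ A) ?_ (one_mem A) (fun _ _ _ _ => mul_mem)
        (fun _ _ => inv_mem) hy
      intro z hz
      obtain ⟨z₀, hz₀, hconj⟩ := Group.mem_conjugatesOfSet_iff.mp hz
      obtain ⟨g, hg⟩ := isConj_iff.mp hconj
      have hgm : g ∈ C ⊔ normalizer (((S : Subgroup G) ⊓ L : Subgroup G) : Set G) := by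
        rw [sup_normalizer_eq_top S C]; exact mem_top g
      obtain ⟨c, hc, m, hm, rfl⟩ := mem_sup_of_normal_left.mp hgm
      have hmz : m * z₀ * m⁻¹ ∈ B := hBn.conj_mem z₀ hz₀.2 m
      have he : z = m * z₀ * m⁻¹ := by
        rw [← hg]
        have := mem_centralizer_iff.mp hc _ hmz
        calc c * m * z₀ * (c * m)⁻¹ = c * (m * z₀ * m⁻¹) * c⁻¹ := by group
          _ = _ := by rw [← this, mul_inv_cancel_right]
      rw [he]
      exact h.conj_inter_mem inf_le_left hm
        (fun A' hA' _ => (iInf₂_le A' hA' : Z ≤ A') hz₀.1) A hA hAL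
    exact key b hb
  by_cases hall : ∀ A ∈ 𝒜, B ≤ A
  · rw [inf_eq_right.mpr (le_iInf₂ hall)]
    exact hBn
  · push Not at hall
    obtain ⟨A₁, hA₁, hnle⟩ := hall
    obtain ⟨A, hA, hnA, hBN⟩ := h.rep B hBS (le_top.trans (normalizer_eq_top (H := B)).ge) hcl
      ⟨A₁, hA₁, hBBZ'.trans (iInf₂_le A₁ hA₁), hnle⟩
    exact absurd (hBA A hA (hquad A hA hBN)) hnA

/-- the intersection of the family lies in `O_p(G)` -/
theorem inter_le_pCore (hst : Stable p G) (hc : centralizer (Cfsg.pCore p G : Set G) ≤ Cfsg.pCore p G)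
    (h : Family S 𝒜) : (⨅ A ∈ 𝒜, A) ≤ Cfsg.pCore p G := by
  intro z hz
  set Z := ⨅ A ∈ 𝒜, A
  set Q := Cfsg.pCore p G
  have hQp : IsPGroup p Q := Cfsg.Lib.Components.isPGroup_pCore p
  haveI : IsMulCommutative Z := ⟨⟨fun a b => Subtype.ext (h.inter_comm a.2 b.2)⟩⟩
  have hQN : Q ≤ normalizer (Z : Set G) :=
    (Cfsg.Lib.Thompson.le_sylow_of_normal hQp S).trans h.sylow_le_normalizer
  have h1 := hst Q hQp z (S.2.to_le (zpowers_le.mpr (h.inter_le hz))) (quadratic_of_normalizes hQN hz)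
  set π := QuotientGroup.mk' (centralizer (Q : Set G))
  have hLp : IsPGroup p ((Cfsg.pCore p (G ⧸ centralizer (Q : Set G))).comap π) :=
    (Cfsg.Lib.Components.isPGroup_pCore p).comap_of_ker_isPGroup π
      (by rw [QuotientGroup.ker_mk']; exact hQp.to_le hc)
  exact Cfsg.Lib.Components.le_pCore hLp (show z ∈ (Cfsg.pCore p _).comap π from h1)

/-- **Glauberman's `ZJ` theorem** -/
theorem inter_normal (hst : Stable p G) (hc : centralizer (Cfsg.pCore p G : Set G) ≤ Cfsg.pCore p G)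
    (h : Family S 𝒜) : (⨅ A ∈ 𝒜, A).Normal := by
  have := inter_inf_normal hst h _ (Cfsg.pCore p G) rfl inferInstance
    (Cfsg.Lib.Components.isPGroup_pCore p)
  rwa [inf_eq_left.mpr (inter_le_pCore hst hc h)] at this

end Cfsg.Lib.ZJ
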