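import Cfsg.Agent.Components.Functor.Fusion
import Cfsg.Agent.Components.ZJ.Closed

/-!
Control of strong fusion by a functor evaluated on a strongly closed subgroup.
-/

set_option autoImplicit false
set_option linter.style.haveILetI false
set_option linter.unusedSectionVars false

namespace Cfsg.Lib.CtrlD

open Subgroup
open Cfsg.Lib.Control (img)
open Cfsg.Lib.Functor (IsSection induced_le induced_ne_bot map_induced normalizer_le_normalizer_induced)

universe u

/-- `g` agrees on `A` with an element of `N` -/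
def Ag {G : Type u} [Group G] (N : Subgroup G) (A : Set G) (g : G) : Prop :=
  ∃ n ∈ N, ∀ a ∈ A, n * a * n⁻¹ = g * a * g⁻¹

section Ag

variable {G : Type u} [Group G] {N : Subgroup G} {A : Set G} {g : G}

theorem Ag.of_mem (h : g ∈ N) : Ag N A g := ⟨g, h, fun _ _ => rfl⟩

theorem Ag.mono {B : Set G} (hAB : A ⊆ B) (h : Ag N B g) : Ag N A g :=
  let ⟨n, hn, hng⟩ := h
  ⟨n, hn, fun a ha => hng a (hAB ha)⟩

theorem Ag.congr {g' : G} (e : ∀ a ∈ A, g * a * g⁻¹ = g' * a * g'⁻¹) (h : Ag N A g) : Ag N A g' :=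
  let ⟨n, hn, hng⟩ := h
  ⟨n, hn, fun a ha => (hng a ha).trans (e a ha)⟩

theorem Ag.trans {g' : G} (h : Ag N A g) (h' : Ag N (img g A) g') : Ag N A (g' * g) := by
  obtain ⟨n, hn, hng⟩ := h
  obtain ⟨m, hm, hmg⟩ := h'
  refine ⟨m * n, mul_mem hm hn, fun a ha => ?_⟩
  calc m * n * a * (m * n)⁻¹ = m * (n * a * n⁻¹) * m⁻¹ := by group
    _ = m * (g * a * g⁻¹) * m⁻¹ := by rw [hng a ha]
    _ = g' * (g * a * g⁻¹) * g'⁻¹ := hmg _ ⟨a, ha, rfl⟩
    _ = _ := by group

theorem Ag.inv (h : Ag N A g) : Ag N (img g A) g⁻¹ := by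
  obtain ⟨n, hn, hng⟩ := h
  refine ⟨n⁻¹, inv_mem hn, ?_⟩
  rintro _ ⟨a, ha, rfl⟩
  show n⁻¹ * (g * a * g⁻¹) * n⁻¹⁻¹ = g⁻¹ * (g * a * g⁻¹) * g⁻¹⁻¹
  rw [← hng a ha]
  conv_rhs => rw [hng a ha]
  group

end Ag

variable {p : ℕ} [Fact p.Prime]

/-- the functor value on every strongly closed subgroup controls strong fusion -/
def Ctl (p : ℕ) (W : ∀ (Q : Type u) [Group Q], Subgroup Q) (G : Type u) [Group G] : Prop :=
  ∀ (P : Sylow p G) (D : Subgroup G), Cfsg.IsStronglyClosed D (P : Subgroup G) →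
    ∀ (A : Set G) (g : G), A ⊆ (P : Subgroup G) → img g A ⊆ (P : Subgroup G) →
      Ag (normalizer ((Cfsg.inducedFunctor (G := G) W D : Subgroup G) : Set G)) A g

variable {W : ∀ (Q : Type u) [Group Q], Subgroup Q}

/-- control in a subgroup -/
theorem agree_in_subgroup (hW : Cfsg.IsCharPFunctor.{u} p W) {G : Type u} [Group G] [Finite G]
    (P : Sylow p G) {D : Subgroup G} (hD : Cfsg.IsStronglyClosed D (P : Subgroup G)) {H R : Subgroup G}
    (hRH : R ≤ H) (hRP : R ≤ (P : Subgroup G)) (hnd : ¬ p ∣ R.relIndex H) (h : Ctl p W H)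
    {A : Set G} {y : G} (hy : y ∈ H) (hA : A ⊆ (R : Set G)) (hyA : img y A ⊆ (R : Set G)) :
    Ag (H ⊓ normalizer ((Cfsg.inducedFunctor (G := G) W (R ⊓ D) : Subgroup G) : Set G)) A y := by
  let R' : Sylow p H := ((P.2.to_le hRP).comap_subtype (K := H)).toSylow hnd
  set D' := (R ⊓ D).subgroupOf H
  have hD' : Cfsg.IsStronglyClosed D' (R' : Subgroup H) := by
    refine ⟨fun x hx => hx.1, fun x hx g hgx => ⟨hgx, ?_⟩⟩
    exact hD.2 (x : G) hx.2 (g : G) (hRP hgx)
  obtain ⟨n, hn, hng⟩ := h R' D' hD' (Subtype.val ⁻¹' A) ⟨y, hy⟩ (fun x hx => hA hx)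
    (Cfsg.Lib.Control.img_subset_iff.mpr fun x hx => Cfsg.Lib.Control.img_subset_iff.mp hyA _ hx)
  have hD'p : IsPGroup p D' := R'.2.to_le hD'.1
  have hmap : (Cfsg.inducedFunctor (G := H) W D').map H.subtype = Cfsg.inducedFunctor (G := G) W (R ⊓ D) := by
    rw [map_induced hW hD'p H.subtype_injective.injOn, subgroupOf_map_subtype,
      inf_eq_left.mpr (inf_le_left.trans hRH)]
  refine ⟨n, ⟨n.2, hmap ▸ le_normalizer_map H.subtype ⟨n, hn, rfl⟩⟩, fun a ha => ?_⟩
  exact congrArg Subtype.val (hng ⟨a, hRH (hA ha)⟩ ha)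

/-- control in an overgroup of the Sylow subgroup -/
theorem agree_of_le (hW : Cfsg.IsCharPFunctor.{u} p W) {G : Type u} [Group G] [Finite G]
    (P : Sylow p G) {D : Subgroup G} (hD : Cfsg.IsStronglyClosed D (P : Subgroup G)) {M : Subgroup G}
    (hPM : (P : Subgroup G) ≤ M) (h : Ctl p W M) {A : Set G} {x : G} (hx : x ∈ M)
    (hA : A ⊆ (P : Subgroup G)) (hxA : img x A ⊆ (P : Subgroup G)) :
    Ag (normalizer ((Cfsg.inducedFunctor (G := G) W D : Subgroup G) : Set G)) A x := by
  obtain ⟨n, hn, hng⟩ := agree_in_subgroup hW P hD hPM le_rfl (fun hd => P.not_dvd_index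
    (hd.trans (relIndex_dvd_index_of_le hPM))) h hx hA hxA
  rw [inf_eq_right.mpr hD.1] at hn
  exact ⟨n, hn.2, hng⟩

/-- **the reduction** to the groups of characteristic `p` in a class closed under subgroups, quotients
by normal `p'`-subgroups and quotients by normal `p`-subgroups on which the group acts as a `p`-group -/
theorem ctl_main_of (hW : Cfsg.IsCharPFunctor.{u} p W) (Φ : ∀ (L : Type u) [Group L], Prop)
    (hsub : ∀ (L : Type u) [Group L] [Finite L] (H : Subgroup L), Φ L → Φ H)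
    (hquot : ∀ (L : Type u) [Group L] [Finite L] (N : Subgroup L) [N.Normal],
      (Nat.card N).Coprime p ∨ (IsPGroup p N ∧ ∀ x : L, ∃ k : ℕ, x ^ p ^ k ∈ centralizer (N : Set L)) →
        Φ L → Φ (L ⧸ N))
    (hcrit : ∀ (L : Type u) [Group L] [Finite L], Φ L →
      centralizer (Cfsg.pCore p L : Set L) ≤ Cfsg.pCore p L → ∀ (T : Sylow p L) (D : Subgroup L),
      Cfsg.IsStronglyClosed D (T : Subgroup L) → (Cfsg.inducedFunctor (G := L) W D).Normal)
    (n : ℕ) : ∀ (G : Type u) [Group G] [Finite G], Nat.card G = n → Φ G → Ctl p W G := by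
  induction n using Nat.strong_induction_on with
  | _ n ih =>
  intro G _ _ hG hΦ
  have ihsub : ∀ H : Subgroup G, H ≠ ⊤ → Ctl p W H := fun H hH =>
    ih (Nat.card H) (hG ▸ lt_of_le_of_ne (card_le_card_group H)
      (fun h => hH (H.eq_top_of_card_eq h))) H rfl (hsub G H hΦ)
  have ihquot : ∀ (N : Subgroup G) [N.Normal], N ≠ ⊥ →
      ((Nat.card N).Coprime p ∨ (IsPGroup p N ∧ ∀ x : G, ∃ k : ℕ, x ^ p ^ k ∈ centralizer (N : Set G))) →
      Ctl p W (G ⧸ N) := fun N _ hN hk =>
    ih (Nat.card (G ⧸ N)) (by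
      rw [← hG, card_eq_card_quotient_mul_card_subgroup N]
      exact lt_mul_of_one_lt_right Nat.card_pos ((one_lt_card_iff_ne_bot _).mpr hN)) (G ⧸ N) rfl
      (hquot G N hk hΦ)
  intro P D hD A g hA hgA
  set Q := Cfsg.pCore p G
  have hQp : IsPGroup p Q := Cfsg.Lib.Components.isPGroup_pCore p
  have hQP : Q ≤ (P : Subgroup G) := Cfsg.Lib.Thompson.le_sylow_of_normal hQp P
  have hDp : IsPGroup p D := P.2.to_le hD.1
  set Z := Cfsg.inducedFunctor (G := G) W D
  have hPD : (P : Subgroup G) ≤ normalizer (D : Set G) := Cfsg.Lib.ZJ.le_normalizer_of_stronglyClosed hD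
  have hPZ : (P : Subgroup G) ≤ normalizer (Z : Set G) :=
    hPD.trans (normalizer_le_normalizer_induced hW hDp)
  have hNPZ : normalizer ((P : Subgroup G) : Set G) ≤ normalizer (Z : Set G) := by
    refine le_trans (fun x hx => ?_) (normalizer_le_normalizer_induced hW hDp)
    show x ∈ normalizer (D : Set G)
    rw [← Cfsg.Lib.Transfer.map_conj_eq_self_iff]
    refine eq_of_le_of_card_ge ?_ (Cfsg.Lib.Transfer.card_map_conj D x).ge
    rintro _ ⟨d, hd, rfl⟩
    exact hD.2 d hd x ((mem_normalizer_iff.mp hx d).mp (hD.1 hd))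
  have htriv : Z.Normal → Ag (normalizer (Z : Set G)) A g := fun h => Ag.of_mem (by
    rw [normalizer_eq_top_iff.mpr h]; exact mem_top g)
  by_cases hcon : centralizer (Q : Set G) ≤ Q
  · exact htriv (hcrit G hΦ hcon P D hD)
  by_cases hDQ : D ≤ Q
  · haveI : D.Normal := ⟨fun x hx y => hD.2 x hx y (hQP ((inferInstance : Q.Normal).conj_mem x (hDQ hx) y))⟩
    refine htriv (normalizer_eq_top_iff.mp (top_le_iff.mp ?_))
    exact le_trans (normalizer_eq_top D).ge (normalizer_le_normalizer_induced hW hDp)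
  by_cases hQ : Q = ⊥
  · -- no normal `p`-subgroup: local to global
    have hmeet : (P : Subgroup G) ⊓ centralizer ((P : Subgroup G) : Set G) ⊓ D ≠ ⊥ := by
      intro h
      haveI : (D.subgroupOf (P : Subgroup G)).Normal :=
        normal_subgroupOf_iff_le_normalizer hD.1 |>.mpr hPD
      have hne : D.subgroupOf (P : Subgroup G) ≠ ⊥ := by
        rw [Ne, subgroupOf_eq_bot, disjoint_iff, inf_eq_left.mpr hD.1]
        exact fun h0 => hDQ (h0 ▸ bot_le)
      obtain ⟨z, hzD, hzC, hz3⟩ := Cfsg.Lib.PGroups.exists_mem_center_of_normal_ne_bot P.2 hne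
      have hzm : (z : G) ∈ (P : Subgroup G) ⊓ centralizer ((P : Subgroup G) : Set G) ⊓ D :=
        ⟨⟨z.2, mem_centralizer_iff.mpr fun y hy =>
          congrArg Subtype.val (mem_center_iff.mp hzC ⟨y, hy⟩)⟩, hzD⟩
      rw [h, mem_bot] at hzm
      rw [show z = 1 from Subtype.ext hzm, orderOf_one] at hz3
      exact (Fact.out : p.Prime).ne_one hz3.symm
    let W' : Subgroup G → Subgroup G := fun R => Cfsg.inducedFunctor (G := G) W (R ⊓ D)
    have hRD : ∀ (R : Subgroup G) (x : G), R ≤ (P : Subgroup G) →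
        R.map (MulAut.conj x).toMonoidHom ≤ (P : Subgroup G) →
        R.map (MulAut.conj x).toMonoidHom ⊓ D = (R ⊓ D).map (MulAut.conj x).toMonoidHom := by
      intro R x hR hxR
      ext z
      constructor
      · rintro ⟨⟨r, hr, rfl⟩, hz⟩
        refine ⟨r, ⟨hr, ?_⟩, rfl⟩
        have h1 := hD.2 _ hz x⁻¹ (by simpa [mul_assoc] using hR hr)
        simpa [mul_assoc] using h1
      · rintro ⟨r, hr, rfl⟩
        exact ⟨⟨r, hr.1, rfl⟩, hD.2 r hr.2 x (hxR ⟨r, hr.1, rfl⟩)⟩
    obtain ⟨c, hc, hcg⟩ : Cfsg.Lib.Control.Agree {W'} ⊤ (P : Subgroup G) A g := by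
      refine Cfsg.Lib.Control.agree_of_local P {W'}
        {U | U ≤ (P : Subgroup G) ∧ Cfsg.Lib.Control.Good p (P : Subgroup G) U} (fun U hU => hU.1)
        (fun T hT => ?_) (fun U hU => hU.2) ?_ ?_ ?_ ?_ A g hA hgA
      · obtain ⟨x, hx, hgood⟩ := Cfsg.Lib.Control.exists_good P hT
        exact ⟨_, ⟨hx, hgood⟩, ⟨x, rfl⟩, hgood⟩
      · rintro W'' rfl R _
        exact (induced_le _).trans inf_le_left
      · rintro W'' rfl R x hR hxR
        show Cfsg.inducedFunctor W (_ ⊓ D) = (Cfsg.inducedFunctor W (R ⊓ D)).map (MulAut.conj x).toMonoidHom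
        rw [Cfsg.Lib.Functor.map_induced_equiv hW (P.2.to_le (inf_le_left.trans hR)) (MulAut.conj x),
          hRD R x hR hxR]
      · rintro W'' rfl U hU hU1
        refine induced_ne_bot hW (P.2.to_le (inf_le_left.trans inf_le_left)) fun h => hmeet (le_bot_iff.mp (h ▸ ?_))
        exact le_inf (le_inf (inf_le_left.trans inf_le_left)
          ((inf_le_left.trans inf_le_right).trans ((centralizer_le hU).trans
            (Cfsg.Lib.Thompson.centralizer_le_normalizer U)))) inf_le_right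
      · intro U hU hU1 B y hy hB hyB
        have hHne : normalizer (U : Set G) ≠ ⊤ := fun htop => hU1 (by
          haveI : U.Normal := normalizer_eq_top_iff.mp htop
          exact le_bot_iff.mp (hQ ▸ Cfsg.Lib.Components.le_pCore (P.2.to_le hU.1)))
        obtain ⟨m, hm, hmy⟩ := agree_in_subgroup hW P hD inf_le_right inf_le_left hU.2 (ihsub _ hHne) hy hB hyB
        exact ⟨m, Cfsg.Lib.Control.Chain.single ⟨⟨W', rfl, hm⟩, hB,
          (Cfsg.Lib.Control.img_congr hmy).symm ▸ hyB⟩, hmy⟩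
    have h1 := (Cfsg.Lib.Control.chain_singleton hc).2
    change c ∈ normalizer ((Cfsg.inducedFunctor W ((P : Subgroup G) ⊓ D) : Subgroup G) : Set G) at h1
    rw [inf_eq_right.mpr hD.1] at h1
    exact ⟨c, h1, hcg⟩
  by_cases hN : Cfsg.pPrimeCore p G ≠ ⊥
  · -- a normal `p'`-subgroup
    set N := Cfsg.pPrimeCore p G
    have hNc : (Nat.card N).Coprime p := Cfsg.Lib.Components.coprime_card_pPrimeCore p
    set π := QuotientGroup.mk' N
    have hπ : Function.Surjective π := QuotientGroup.mk'_surjective N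
    have hinj := Cfsg.Lib.ZJ.injOn_mk hNc P.2
    have hZmap : Z.map π = Cfsg.inducedFunctor W (D.map π) := map_induced hW hDp (hinj.mono hD.1)
    obtain ⟨nb, hnb, hnbg⟩ := ihquot N hN (Or.inl hNc) (P.mapSurjective hπ) (D.map π)
      (Cfsg.Lib.ZJ.stronglyClosed_map (N := N) P hD) (π '' A) (π g)
      (fun y ⟨a, ha, e⟩ => e ▸ mem_map_of_mem π (hA ha))
      (Cfsg.Lib.Control.img_subset_iff.mpr fun y ⟨a, ha, e⟩ => by
        rw [← e, ← map_inv, ← map_mul, ← map_mul]
        exact mem_map_of_mem π (Cfsg.Lib.Control.img_subset_iff.mp hgA a ha))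
    obtain ⟨n₀, rfl⟩ := hπ nb
    rw [← hZmap] at hnb
    obtain ⟨n₁, hn₁, hn₁e⟩ : ∃ n₁ ∈ normalizer (Z : Set G), π n₁ = π n₀ := by
      have hL : normalizer (Z.map π : Set (G ⧸ N)) ≤ (normalizer ((N ⊔ Z : Subgroup G) : Set G)).map π := by
        intro y hy
        obtain ⟨x, rfl⟩ := hπ y
        refine mem_map_of_mem π ?_
        have : N ⊔ Z = (Z.map π).comap π := by rw [comap_map_eq, QuotientGroup.ker_mk', sup_comm]
        rw [this, ← comap_normalizer_eq_of_surjective _ hπ]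
        exact hy
      obtain ⟨x₀, hx₀, hx₀e⟩ := hL hnb
      have hZp : IsPGroup p Z := hDp.to_le (induced_le _)
      obtain ⟨j, hj⟩ := IsPGroup.iff_card.mp hZp
      obtain ⟨m, hm, hmZ⟩ := Cfsg.Lib.Coprime.exists_conj_eq_of_coprime (N := N) (H := Z)
        le_normalizer_of_normal (by rw [hj]; exact hNc.pow_right j)
        (Or.inr (by haveI := hZp.isNilpotent; infer_instance))
        (K := Cfsg.Lib.Coprime.conjMap x₀ Z)
        (by
          rintro _ ⟨z, hz, rfl⟩
          exact (mem_normalizer_iff.mp hx₀ z).mp (mem_sup_right hz))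
        (Cfsg.Lib.Coprime.card_conjMap x₀ Z)
      refine ⟨m⁻¹ * x₀, Cfsg.Lib.Coprime.conjMap_eq_self_iff.mp ?_, ?_⟩
      · rw [← Cfsg.Lib.Coprime.conjMap_mul, hmZ]
        exact Cfsg.Lib.Coprime.conjMap_inv_conjMap _ _
      · rw [map_mul, map_inv, show π m = 1 from (QuotientGroup.eq_one_iff m).mpr hm, inv_one, one_mul, hx₀e]
    -- move back
    set X := closure (img g A) with hX
    have hXP : X ≤ (P : Subgroup G) := (closure_le _).mpr hgA
    set N' := N ⊓ normalizer (Z : Set G)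
    have hXn : X ≤ normalizer (N' : Set G) :=
      Cfsg.Lib.Coprime.le_normalizer_inf le_normalizer_of_normal ((hXP.trans hPZ).trans le_normalizer)
    have hXp : IsPGroup p X := P.2.to_le hXP
    obtain ⟨j, hj⟩ := IsPGroup.iff_card.mp hXp
    have hN'c : (Nat.card N').Coprime p := hNc.coprime_dvd_left (card_dvd_of_le inf_le_left)
    have hπa : ∀ a ∈ A, π (n₁ * a * n₁⁻¹) = π (g * a * g⁻¹) := fun a ha => by
      rw [map_mul, map_mul, map_inv, hn₁e, map_mul, map_mul, map_inv]
      exact hnbg (π a) ⟨a, ha, rfl⟩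
    obtain ⟨m, hm, hmX⟩ := Cfsg.Lib.Coprime.exists_conj_eq_of_coprime (N := N') (H := X) hXn
      (by rw [hj]; exact hN'c.pow_right j) (Or.inr (by haveI := hXp.isNilpotent; infer_instance))
      (K := closure (img n₁ A))
      (by
        refine (closure_le _).mpr ?_
        rintro _ ⟨a, ha, rfl⟩
        have h1 : n₁ * a * n₁⁻¹ * (g * a * g⁻¹)⁻¹ ∈ N' := by
          refine ⟨?_, Subgroup.mul_mem _ (Subgroup.mul_mem _ (Subgroup.mul_mem _ hn₁ (hPZ (hA ha)))
            (Subgroup.inv_mem _ hn₁)) (Subgroup.inv_mem _ (hPZ (hgA ⟨a, ha, rfl⟩)))⟩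
          show _ ∈ N
          rw [← QuotientGroup.eq_one_iff]
          show π _ = 1
          rw [map_mul π (n₁ * a * n₁⁻¹), map_inv π (g * a * g⁻¹), hπa a ha, mul_inv_cancel]
        have h2 := mul_mem (mem_sup_left h1 : _ ∈ N' ⊔ X)
          (mem_sup_right (subset_closure ⟨a, ha, rfl⟩) : g * a * g⁻¹ ∈ N' ⊔ X)
        rwa [inv_mul_cancel_right] at h2)
      (by rw [Cfsg.Lib.Control.closure_img, hX, Cfsg.Lib.Control.closure_img,
        Cfsg.Lib.Transfer.card_map_conj, Cfsg.Lib.Transfer.card_map_conj])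
    refine ⟨m⁻¹ * n₁, mul_mem (inv_mem hm.2) hn₁, fun a ha => ?_⟩
    have h1 : n₁ * a * n₁⁻¹ ∈ Cfsg.Lib.Coprime.conjMap m X := hmX ▸ subset_closure ⟨a, ha, rfl⟩
    obtain ⟨x, hx, hxe⟩ := h1
    have h2 : m⁻¹ * n₁ * a * (m⁻¹ * n₁)⁻¹ ∈ (P : Subgroup G) := by
      rw [show m⁻¹ * n₁ * a * (m⁻¹ * n₁)⁻¹ = m⁻¹ * (n₁ * a * n₁⁻¹) * m by group, ← hxe]
      show m⁻¹ * (m * x * m⁻¹) * m ∈ (P : Subgroup G)
      rw [show m⁻¹ * (m * x * m⁻¹) * m = x by group]
      exact hXP hx
    refine hinj h2 (hgA ⟨a, ha, rfl⟩) ?_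
    rw [show m⁻¹ * n₁ * a * (m⁻¹ * n₁)⁻¹ = m⁻¹ * (n₁ * a * n₁⁻¹) * m by group, map_mul π _ m,
      map_mul π m⁻¹, map_inv π m, show π m = 1 from (QuotientGroup.eq_one_iff m).mpr hm.1, inv_one,
      one_mul, mul_one, hπa a ha]
  push Not at hN
  set C := centralizer (Q : Set G)
  haveI : C.Normal := normal_centralizer
  -- proper subgroups
  have hcase : normalizer (((P : Subgroup G) ⊓ C : Subgroup G) : Set G) ≠ ⊤ := by
    intro htop
    haveI : ((P : Subgroup G) ⊓ C).Normal := normalizer_eq_top_iff.mp htop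
    have hle : (P : Subgroup G) ⊓ C ≤ Q := Cfsg.Lib.Components.le_pCore (P.2.to_le inf_le_left)
    have hzero : ∀ R : Subgroup C, IsPGroup p R → ∀ y ∈ R, ∀ c : C, c * y = y * c := by
      intro R hR y hy c
      obtain ⟨T, hT⟩ := (hR.map C.subtype).exists_le_sylow
      have hyS : (y : G) ∈ (P : Subgroup G) ⊓ C := by
        obtain ⟨w, hw⟩ := MulAction.exists_smul_eq G T P
        have h1 : w * (y : G) * w⁻¹ ∈ (P : Subgroup G) := by
          rw [← hw, Cfsg.Lib.Transfer.sylow_smul_coe]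
          exact ⟨y, hT (mem_map_of_mem _ hy), rfl⟩
        have h2 : w * (y : G) * w⁻¹ ∈ (P : Subgroup G) ⊓ C := ⟨h1, Normal.conj_mem inferInstance _ y.2 w⟩
        have h3 := Normal.conj_mem (inferInstance : ((P : Subgroup G) ⊓ C).Normal) _ h2 w⁻¹
        simpa [mul_assoc] using h3
      exact Subtype.ext (mem_centralizer_iff.mp c.2 _ (hle hyS)).symm
    obtain ⟨K, hKn, hKc, j, hKj⟩ := Cfsg.Lib.Transfer.hasNormalPComplement_iff.mp
      (Cfsg.Lib.Transfer.hasNormalPComplement_of_frobenius (G := C) (p := p) fun R hR y _ _ q hq =>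
        (hzero R hR q hq y).symm)
    haveI := hKn
    have hKn' : (K.map C.subtype).Normal := ⟨fun x hx w => by
      obtain ⟨y, hy, rfl⟩ := mem_map.mp hx
      refine mem_map.mpr ⟨MulAut.conjNormal w y, ?_, MulAut.conjNormal_apply w y⟩
      rw [Cfsg.Lib.Transfer.mem_iff_coprime_orderOf hKc hKj, MulEquiv.orderOf_eq]
      exact (Cfsg.Lib.Transfer.mem_iff_coprime_orderOf hKc hKj y).mp hy⟩
    have hK : K = ⊥ := by
      have h1 := Cfsg.Lib.Components.le_pPrimeCore (N := K.map C.subtype) (p := p) (by rwa [card_subtype])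
      rw [hN, le_bot_iff, map_eq_bot_iff_of_injective _ C.subtype_injective] at h1
      exact h1
    have hCp : IsPGroup p C := IsPGroup.of_card (n := j) (by rw [← hKj, hK, index_bot])
    exact hcon (Cfsg.Lib.Components.le_pCore hCp)
  set M := C ⊔ (P : Subgroup G)
  by_cases hM : M = ⊤
  · -- `G = C P`
    have hQc : ∀ x : G, ∃ k : ℕ, x ^ p ^ k ∈ C := by
      intro x
      obtain ⟨c₀, hc₀, s, hs, hcs⟩ := mem_sup_of_normal_left.mp
        (show x ∈ M by rw [hM]; exact mem_top x)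
      obtain ⟨i, hi⟩ := P.2 ⟨s, hs⟩
      refine ⟨i, (QuotientGroup.eq_one_iff _).mp ?_⟩
      rw [← hcs, QuotientGroup.mk_pow, QuotientGroup.mk_mul, (QuotientGroup.eq_one_iff c₀).mpr hc₀,
        one_mul, ← QuotientGroup.mk_pow, show s ^ p ^ i = 1 from congrArg Subtype.val hi]
      rfl
    set π := QuotientGroup.mk' Q
    have hπ : Function.Surjective π := QuotientGroup.mk'_surjective Q
    have hker : π.ker = Q := QuotientGroup.ker_mk' Q
    have hPc : ((P : Subgroup G).map π).comap π = P := comap_map_eq_self (hker.le.trans hQP)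
    have hDb : Cfsg.IsStronglyClosed (D.map π) ((P.mapSurjective hπ : Sylow p (G ⧸ Q)) : Subgroup (G ⧸ Q)) := by
      refine ⟨map_mono hD.1, ?_⟩
      rintro _ ⟨x, hx, rfl⟩ y hy
      obtain ⟨y, rfl⟩ := hπ y
      rw [← map_inv, ← map_mul, ← map_mul] at hy ⊢
      exact mem_map_of_mem π (hD.2 x hx y (hPc.le hy))
    set Zb := Cfsg.inducedFunctor W (D.map π)
    set M₁ := (normalizer (Zb : Set (G ⧸ Q))).comap π
    have hPM₁ : (P : Subgroup G) ≤ M₁ := by
      rw [← map_le_iff_le_comap]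
      exact (Cfsg.Lib.ZJ.le_normalizer_of_stronglyClosed hDb).trans
        (normalizer_le_normalizer_induced hW (hDp.map π))
    have hM₁ : M₁ ≠ ⊤ := fun htop => by
      have hn : normalizer (Zb : Set (G ⧸ Q)) = ⊤ := by
        rw [← map_comap_eq_self_of_surjective hπ (normalizer (Zb : Set (G ⧸ Q))),
          show (normalizer (Zb : Set (G ⧸ Q))).comap π = ⊤ from htop, map_top_of_surjective π hπ]
      haveI : Zb.Normal := normalizer_eq_top_iff.mp hn
      haveI : (Zb.comap π).Normal := inferInstance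
      have h1 : Zb.comap π ≤ Q := Cfsg.Lib.Components.le_pCore
        (P.2.to_le ((comap_mono ((induced_le _).trans (map_mono hD.1))).trans hPc.le))
      refine induced_ne_bot hW (hDp.map π) (fun h => hDQ ?_) ?_
      · rw [Subgroup.map_eq_bot_iff, hker] at h; exact h
      · show Zb = ⊥
        rw [← map_comap_eq_self_of_surjective hπ Zb, Subgroup.map_eq_bot_iff, hker]
        exact h1
    -- up to `Q`
    have hmodQ : ∀ (A : Set G) (g : G), A ⊆ (P : Subgroup G) → img g A ⊆ (P : Subgroup G) →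
        ∃ n ∈ normalizer (Z : Set G), img n A ⊆ (P : Subgroup G) ∧
          ∀ a ∈ A, π (n * a * n⁻¹) = π (g * a * g⁻¹) := by
      intro A g hA hgA
      obtain ⟨cb, hcb, hcbg⟩ := ihquot Q hQ (Or.inr ⟨hQp, hQc⟩) (P.mapSurjective hπ) (D.map π) hDb (π '' A) (π g)
        (fun y ⟨a, ha, e⟩ => e ▸ mem_map_of_mem π (hA ha))
        (Cfsg.Lib.Control.img_subset_iff.mpr fun y ⟨a, ha, e⟩ => by
          rw [← e, ← map_inv, ← map_mul, ← map_mul]
          exact mem_map_of_mem π (Cfsg.Lib.Control.img_subset_iff.mp hgA a ha))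
      obtain ⟨x, rfl⟩ := hπ cb
      have hxe : ∀ a ∈ A, π (x * a * x⁻¹) = π (g * a * g⁻¹) := fun a ha => by
        rw [map_mul, map_mul, map_inv, map_mul, map_mul, map_inv]
        exact hcbg (π a) ⟨a, ha, rfl⟩
      have hxA : img x A ⊆ (P : Subgroup G) := Cfsg.Lib.Control.img_subset_iff.mpr fun a ha => by
        rw [← hPc, mem_comap, hxe a ha]
        exact mem_map_of_mem π (hgA ⟨a, ha, rfl⟩)
      obtain ⟨m, hm, hmx⟩ := agree_of_le hW P hD hPM₁ (ihsub _ hM₁) (show x ∈ M₁ from hcb) hA hxA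
      exact ⟨m, hm, (Cfsg.Lib.Control.img_congr hmx).symm ▸ hxA, fun a ha => by rw [hmx a ha]; exact hxe a ha⟩
    -- downwards over `U ≥ Q`
    have hfix : ∀ U : Subgroup G, Q ≤ U → U ≤ (P : Subgroup G) → ∀ k : G,
        (∀ u ∈ U, π (k * u * k⁻¹) = π u) → Ag (normalizer (Z : Set G)) (U : Set G) k := by
      intro U
      induction hd : Nat.card (P : Subgroup G) - Nat.card U using Nat.strong_induction_on generalizing U with
      | _ d ihd =>
      intro hQU hUP k hk
      have hkN : k ∈ normalizer (U : Set G) := by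
        rw [← Cfsg.Lib.Transfer.map_conj_eq_self_iff]
        refine eq_of_le_of_card_ge ?_ (Cfsg.Lib.Transfer.card_map_conj U k).ge
        rintro _ ⟨u, hu, rfl⟩
        have h1 : k * u * k⁻¹ * u⁻¹ ∈ Q := by
          rw [← QuotientGroup.eq_one_iff]
          show π _ = 1
          rw [map_mul, map_inv, hk u hu, mul_inv_cancel]
        have := mul_mem (hQU h1) hu
        rwa [inv_mul_cancel_right] at this
      rcases eq_or_lt_of_le hUP with h | h
      · subst h
        exact Ag.of_mem (hNPZ hkN)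
      obtain ⟨a, haS, hagood⟩ := Cfsg.Lib.Control.exists_good P hUP
      obtain ⟨h', hh', hh'N⟩ := Cfsg.Lib.Control.exists_conj_normalizer P rfl hagood
      set U' := U.map (MulAut.conj a).toMonoidHom
      set P₁ := (P : Subgroup G) ⊓ normalizer (U : Set G)
      have hUP₁ : U ≤ P₁ := le_inf hUP le_normalizer
      have hbig : Ag (normalizer (Z : Set G)) (P₁ : Set G) h' := by
        have hA' : img h' (P₁ : Set G) ⊆ (P : Subgroup G) := by
          rw [Cfsg.Lib.Control.img_eq_map]; exact fun z hz => (hh'N hz).1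
        obtain ⟨c, hc, hcS, hcmod⟩ := hmodQ (P₁ : Set G) h' (fun u hu => hu.1) hA'
        have hlt : Nat.card U < Nat.card P₁ := Cfsg.Lib.Control.card_lt_normalizer P.2 h
        have hle : Nat.card P₁ ≤ Nat.card (P : Subgroup G) := card_le_of_le inf_le_left
        set P₂ := P₁.map (MulAut.conj c).toMonoidHom
        have hP₂c : Nat.card P₂ = Nat.card P₁ := Cfsg.Lib.Transfer.card_map_conj _ _
        have hP₂S : P₂ ≤ (P : Subgroup G) := fun z hz => hcS hz
        have hQP₂ : Q ≤ P₂ := fun q hq => ⟨c⁻¹ * q * c,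
          hUP₁ (hQU (by simpa using Normal.conj_mem inferInstance q hq c⁻¹)), by simp [mul_assoc]⟩
        have h2 := ihd _ (by omega) P₂ rfl hQP₂ hP₂S (h' * c⁻¹) (by
          rintro _ ⟨u, hu, rfl⟩
          show π (h' * c⁻¹ * (c * u * c⁻¹) * (h' * c⁻¹)⁻¹) = π (c * u * c⁻¹)
          rw [hcmod u hu]
          congr 1
          group)
        have h3 := (Ag.of_mem (A := (P₁ : Set G)) hc).trans h2
        rwa [inv_mul_cancel_right] at h3
      have hU'S : U' ≤ (P : Subgroup G) := haS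
      set k' := h' * k * h'⁻¹
      have hk' : ∀ u ∈ U', π (k' * u * k'⁻¹) = π u := by
        intro u hu
        rw [← hh'] at hu
        obtain ⟨u, hu, rfl⟩ := hu
        show π (h' * k * h'⁻¹ * (h' * u * h'⁻¹) * (h' * k * h'⁻¹)⁻¹) = π (h' * u * h'⁻¹)
        rw [show h' * k * h'⁻¹ * (h' * u * h'⁻¹) * (h' * k * h'⁻¹)⁻¹ = h' * (k * u * k⁻¹) * h'⁻¹ by group]
        simp only [map_mul, map_inv]
        rw [← map_inv, ← map_mul, ← map_mul π, hk u hu]
      let D₁ : Subgroup G :=
        { carrier := {x | x ∈ normalizer (U' : Set G) ∧ ∀ u ∈ U', π (x * u * x⁻¹) = π u}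
          one_mem' := ⟨one_mem _, fun u _ => by simp⟩
          mul_mem' := fun {x y} hx hy => ⟨mul_mem hx.1 hy.1, fun u hu => by
            rw [show x * y * u * (x * y)⁻¹ = x * (y * u * y⁻¹) * x⁻¹ by group,
              hx.2 _ ((mem_normalizer_iff.mp hy.1 u).mp hu), hy.2 u hu]⟩
          inv_mem' := fun {x} hx => ⟨inv_mem hx.1, fun u hu => by
            have h1 := hx.2 _ ((mem_normalizer_iff.mp (inv_mem hx.1) u).mp hu)
            rw [← h1]
            congr 1
            group⟩ }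
      have hkD : k' ∈ D₁ := ⟨by
        rw [← Cfsg.Lib.Transfer.map_conj_eq_self_iff, ← hh', map_map]
        conv_rhs => rw [← Cfsg.Lib.Transfer.map_conj_eq_self_iff.mpr hkN, map_map]
        congr 1
        ext z; simp [k', mul_assoc], hk'⟩
      haveI : (D₁.subgroupOf (normalizer (U' : Set G))).Normal := ⟨fun x hx y => by
        refine ⟨((y * x * y⁻¹ : normalizer (U' : Set G))).2, fun u hu => ?_⟩
        have h1 : π ((x : G) * ((y : G)⁻¹ * u * (y : G)⁻¹⁻¹) * (x : G)⁻¹) = π ((y : G)⁻¹ * u * (y : G)⁻¹⁻¹) :=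
          hx.2 _ ((mem_normalizer_iff.mp (inv_mem y.2) u).mp hu)
        show π ((y : G) * x * (y : G)⁻¹ * u * ((y : G) * x * (y : G)⁻¹)⁻¹) = π u
        rw [show (y : G) * x * (y : G)⁻¹ * u * ((y : G) * x * (y : G)⁻¹)⁻¹ =
          y * ((x : G) * ((y : G)⁻¹ * u * (y : G)⁻¹⁻¹) * (x : G)⁻¹) * (y : G)⁻¹ by group, map_mul, map_mul, h1,
          ← map_mul, ← map_mul]
        congr 1
        group⟩
      let T : Sylow p (normalizer (U' : Set G)) :=
        ((P.2.to_le (inf_le_left : (P : Subgroup G) ⊓ normalizer (U' : Set G) ≤ P)).comap_subtype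
          (K := normalizer (U' : Set G))).toSylow hagood
      have hQU' : Q ≤ U' := fun q hq => ⟨a⁻¹ * q * a,
        hQU (by simpa using Normal.conj_mem inferInstance q hq a⁻¹), by simp [mul_assoc]⟩
      obtain ⟨s, hs, hsU⟩ : ∃ s ∈ (P : Subgroup G), ∀ u ∈ U', s * u * s⁻¹ = k' * u * k'⁻¹ := by
        let N' := normalizer (U' : Set G)
        set D' := D₁.subgroupOf N'
        haveI : ((centralizer (U' : Set G)).subgroupOf N').Normal :=
          (normal_subgroupOf_iff_le_normalizer (Cfsg.Lib.Thompson.centralizer_le_normalizer U')).mpr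
            (Cfsg.Lib.Thompson.normalizer_le_normalizer_centralizer U')
        set θ := QuotientGroup.mk' ((centralizer (U' : Set G)).subgroupOf N')
        have hθ : Function.Surjective θ := QuotientGroup.mk'_surjective _
        haveI : (D'.map θ).Normal := Subgroup.Normal.map inferInstance θ hθ
        have hDp' : IsPGroup p (D'.map θ) := by
          rintro ⟨_, d, hd, rfl⟩
          obtain ⟨a₁, b₁, -, hb₁, hab₁, ⟨j₁, hj₁⟩, hcop₁⟩ := Cfsg.Lib.Transfer.exists_pPart p d
          refine ⟨j₁, Subtype.ext ?_⟩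
          show θ d ^ p ^ j₁ = 1
          have hb1 : θ b₁ = 1 := by
            refine (QuotientGroup.eq_one_iff _).mpr ?_
            show (b₁ : G) ∈ centralizer (U' : Set G)
            have hbD : (b₁ : G) ∈ D₁ := (zpowers_le.mpr hd : zpowers d ≤ D') hb₁
            have hbC : (b₁ : G) ∈ C := by
              obtain ⟨c₀, hc₀, s, hs, hcs⟩ := (Cfsg.Lib.Coprime.mem_sup_of_le_normalizer
                (le_normalizer_of_normal)).mp (show (b₁ : G) ∈ M by rw [hM]; exact mem_top _)
              obtain ⟨i, hi⟩ := P.2 ⟨s, hs⟩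
              have h1 : QuotientGroup.mk' C (b₁ : G) = QuotientGroup.mk' C s := by
                rw [← hcs, map_mul, show QuotientGroup.mk' C c₀ = 1 from (QuotientGroup.eq_one_iff c₀).mpr hc₀,
                  one_mul]
              have h2 : QuotientGroup.mk' C (b₁ : G) ^ p ^ i = 1 := by
                rw [h1, ← map_pow, show s ^ p ^ i = 1 from congrArg Subtype.val hi, map_one]
              refine (QuotientGroup.eq_one_iff _).mp (orderOf_eq_one_iff.mp (Nat.eq_one_of_dvd_coprimes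
                (hcop₁.pow_right i) ?_ (orderOf_dvd_of_pow_eq_one h2)))
              exact (orderOf_map_dvd (QuotientGroup.mk' C) (b₁ : G)).trans (orderOf_coe b₁).dvd
            refine mem_centralizer_iff.mpr fun x hx => ?_
            set w := (b₁ : G) * x * (b₁ : G)⁻¹ * x⁻¹ with hw
            have hwQ : w ∈ Q := by
              rw [← QuotientGroup.eq_one_iff]
              show π _ = 1
              rw [map_mul, map_inv, hbD.2 x hx, mul_inv_cancel]
            have hbw : ∀ v ∈ Q, (b₁ : G) * v * (b₁ : G)⁻¹ = v := fun v hv => by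
              rw [← mem_centralizer_iff.mp hbC v hv, mul_inv_cancel_right]
            have hit : ∀ i : ℕ, (b₁ : G) ^ i * x * ((b₁ : G) ^ i)⁻¹ = w ^ i * x := by
              intro i
              induction i with
              | zero => simp
              | succ i ihi =>
                calc (b₁ : G) ^ (i + 1) * x * ((b₁ : G) ^ (i + 1))⁻¹
                    = b₁ * ((b₁ : G) ^ i * x * ((b₁ : G) ^ i)⁻¹) * (b₁ : G)⁻¹ := by rw [pow_succ']; group
                  _ = ((b₁ : G) * w ^ i * (b₁ : G)⁻¹) * (b₁ * x * (b₁ : G)⁻¹) := by rw [ihi]; group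
                  _ = w ^ i * (w * x) := by rw [hbw _ (pow_mem hwQ i), hw]; group
                  _ = _ := by rw [pow_succ]; exact (mul_assoc _ _ _).symm
            have h5 := hit (orderOf (b₁ : G))
            rw [pow_orderOf_eq_one, inv_one, mul_one, one_mul, eq_comm, mul_eq_right] at h5
            obtain ⟨i, hi⟩ := IsPGroup.iff_orderOf.mp hQp ⟨w, hwQ⟩
            rw [Subgroup.orderOf_mk] at hi
            have hw1 : w = 1 := orderOf_eq_one_iff.mp (Nat.eq_one_of_dvd_coprimes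
              ((show (orderOf (b₁ : G)).Coprime p by rw [orderOf_coe]; exact hcop₁).pow_right i)
              (orderOf_dvd_of_pow_eq_one h5) hi.dvd)
            rw [hw, mul_inv_eq_one] at hw1
            calc x * (b₁ : G) = b₁ * x * (b₁ : G)⁻¹ * b₁ := by rw [hw1]
              _ = b₁ * x := by group
          rw [← hab₁, map_mul, hb1, mul_one, ← map_pow, ← hj₁, pow_orderOf_eq_one, map_one]
        have hle := Cfsg.Lib.Thompson.le_sylow_of_normal hDp' (T.mapSurjective hθ)
        obtain ⟨s, hs, hsk⟩ := hle (mem_map_of_mem θ (show (⟨k', hkD.1⟩ : N') ∈ D' from hkD))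
        refine ⟨s, (mem_subgroupOf.mp hs).1, fun u hu => ?_⟩
        have h1 : (⟨k', hkD.1⟩ : N')⁻¹ * s ∈ (centralizer (U' : Set G)).subgroupOf N' :=
          QuotientGroup.eq.mp hsk.symm
        have h2 := mem_centralizer_iff.mp (mem_subgroupOf.mp h1) u hu
        change u * (k'⁻¹ * (s : G)) = k'⁻¹ * (s : G) * u at h2
        calc (s : G) * u * (s : G)⁻¹ = k' * (k'⁻¹ * s * u) * (s : G)⁻¹ := by group
          _ = _ := by rw [← h2]; group
      have h2 : Ag (normalizer (Z : Set G)) (U' : Set G) k' := (Ag.of_mem (hPZ hs)).congr hsU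
      have himg : img h' (U : Set G) = (U' : Set G) := by rw [Cfsg.Lib.Control.img_eq_map, hh']
      have h3 : Ag (normalizer (Z : Set G)) (U : Set G) h' := hbig.mono hUP₁
      have h4 : img (k' * h') (U : Set G) = (U' : Set G) := by
        rw [← Cfsg.Lib.Control.img_img, himg, Cfsg.Lib.Control.img_eq_map,
          Cfsg.Lib.Transfer.map_conj_eq_self_iff.mpr hkD.1]
      have h5 := (h3.trans (g' := k') (by rw [himg]; exact h2)).trans (g' := h'⁻¹) (by
        rw [h4, ← himg]; exact h3.inv)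
      rwa [show h'⁻¹ * (k' * h') = k by simp [k', mul_assoc]] at h5
    set U := closure A ⊔ Q
    have hUS : U ≤ (P : Subgroup G) := sup_le ((closure_le _).mpr hA) hQP
    have hgU : img g (U : Set G) ⊆ (P : Subgroup G) := by
      rw [Cfsg.Lib.Control.img_eq_map, Subgroup.map_sup]
      refine SetLike.coe_subset_coe.mpr (sup_le ?_ ?_)
      · rw [← Cfsg.Lib.Control.closure_img]; exact (closure_le _).mpr hgA
      · rw [Cfsg.Lib.Transfer.map_conj_eq_self_iff.mpr (by rw [normalizer_eq_top]; exact mem_top g)]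
        exact hQP
    obtain ⟨c, hc, hcS, hcmod⟩ := hmodQ (U : Set G) g hUS hgU
    set U₂ := U.map (MulAut.conj c).toMonoidHom
    have hQU₂ : Q ≤ U₂ := fun q hq => ⟨c⁻¹ * q * c,
      mem_sup_right (by simpa using Normal.conj_mem inferInstance q hq c⁻¹), by simp [mul_assoc]⟩
    have h2 := hfix U₂ hQU₂ (fun z hz => hcS hz) (g * c⁻¹) (by
      rintro _ ⟨u, hu, rfl⟩
      show π (g * c⁻¹ * (c * u * c⁻¹) * (g * c⁻¹)⁻¹) = π (c * u * c⁻¹)
      rw [hcmod u hu]
      congr 1
      group)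
    have h3 := (Ag.of_mem (A := (U : Set G)) hc).trans h2
    rw [inv_mul_cancel_right] at h3
    exact h3.mono fun a ha => mem_sup_left (subset_closure ha)
  -- `C P < G`
  set N₁ := normalizer (((P : Subgroup G) ⊓ C : Subgroup G) : Set G)
  have hfr := Cfsg.Lib.ZJ.sup_normalizer_inf_eq_top C P
  obtain ⟨n', hn, c, hc, rfl⟩ := mem_sup_of_normal_right.mp ((sup_comm C N₁ ▸ hfr).ge (mem_top g))
  have hSN₁ : (P : Subgroup G) ≤ N₁ :=
    Cfsg.Lib.Coprime.le_normalizer_inf le_normalizer le_normalizer_of_normal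
  set X := (closure A).map (MulAut.conj c).toMonoidHom
  have hXM : X ≤ M ⊓ N₁ := by
    rintro _ ⟨u, hu, rfl⟩
    have huS : u ∈ (P : Subgroup G) := (closure_le _).mpr hA hu
    refine ⟨Subgroup.mul_mem M (Subgroup.mul_mem M (mem_sup_left hc) (mem_sup_right huS)) (Subgroup.inv_mem M (mem_sup_left hc)), ?_⟩
    have h1 : n' * c * u * (n' * c)⁻¹ ∈ (P : Subgroup G) := by
      have : (closure A).map (MulAut.conj (n' * c)).toMonoidHom ≤ (P : Subgroup G) := by
        rw [← Cfsg.Lib.Control.closure_img]; exact (closure_le _).mpr hgA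
      exact this ⟨u, hu, rfl⟩
    have h2 := mul_mem (mul_mem (inv_mem hn) (hSN₁ h1)) hn
    show c * u * c⁻¹ ∈ N₁
    simpa [mul_assoc] using h2
  have hSM' : (P : Subgroup G) ≤ M ⊓ N₁ := le_inf le_sup_right hSN₁
  obtain ⟨T, hT⟩ := (((P.2.to_le ((closure_le _).mpr hA)).map _).comap_subtype (K := M ⊓ N₁)
    : IsPGroup p (X.subgroupOf (M ⊓ N₁))).exists_le_sylow
  obtain ⟨m, hm⟩ := MulAction.exists_smul_eq (M ⊓ N₁ : Subgroup G) T (P.subtype hSM')
  have hmX : ∀ a ∈ A, (m : G) * c * a * ((m : G) * c)⁻¹ ∈ (P : Subgroup G) := by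
    intro a ha
    have hx : c * a * c⁻¹ ∈ X := ⟨a, subset_closure ha, rfl⟩
    have h5 : m * ⟨c * a * c⁻¹, hXM hx⟩ * m⁻¹ ∈ (P.subtype hSM' : Subgroup (M ⊓ N₁ : Subgroup G)) := by
      rw [← hm]
      exact Cfsg.Lib.Transfer.mem_conj_sylow_iff.mpr (hT hx)
    rw [Sylow.coe_subtype, mem_subgroupOf] at h5
    simpa [mul_assoc] using h5
  have hmA := Cfsg.Lib.Control.img_subset_iff.mpr hmX
  have h1 := agree_of_le hW P hD le_sup_right (ihsub M hM) (mul_mem m.2.1 (mem_sup_left hc)) hA hmA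
  have h2 := agree_of_le hW P hD hSN₁ (ihsub N₁ hcase) (x := n' * (m : G)⁻¹) (mul_mem hn (inv_mem m.2.2)) hmA
    (by rw [Cfsg.Lib.Control.img_img, show n' * (m : G)⁻¹ * ((m : G) * c) = n' * c by group]; exact hgA)
  have h3 := h1.trans h2
  rwa [show n' * (m : G)⁻¹ * ((m : G) * c) = n' * c by group] at h3

/-- **the reduction** to the sections of characteristic `p` -/
theorem ctl_main (hW : Cfsg.IsCharPFunctor.{u} p W) (n : ℕ) : ∀ (G : Type u) [Group G] [Finite G],
    Nat.card G = n →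
    (∀ (L : Type u) [Group L] [Finite L], IsSection L G →
      centralizer (Cfsg.pCore p L : Set L) ≤ Cfsg.pCore p L → ∀ (T : Sylow p L) (D : Subgroup L),
      Cfsg.IsStronglyClosed D (T : Subgroup L) → (Cfsg.inducedFunctor (G := L) W D).Normal) →
    Ctl p W G :=
  fun G _ _ hG hcrit => ctl_main_of hW (fun L _ => IsSection L G)
    (fun _ _ _ H hL => (IsSection.subgroup H).trans hL)
    (fun _ _ _ N _ _ hL => (IsSection.quotient N).trans hL)
    hcrit n G hG (IsSection.refl G)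

/-- the conclusion in the form of the definitions -/
theorem controlsStrongFusionOf {G : Type u} [Group G] [Finite G] (h : Ctl p W G) (P : Sylow p G)
    {D : Subgroup G} (hD : Cfsg.IsStronglyClosed D (P : Subgroup G)) (A : Set G) (hA : A ⊆ (P : Subgroup G)) :
    Cfsg.ControlsStrongFusionOf (normalizer ((Cfsg.inducedFunctor (G := G) W D : Subgroup G) : Set G))
      (P : Subgroup G) A := by
  refine ⟨hA, fun g hg => ?_⟩
  obtain ⟨n, hn, hng⟩ := h P D hD A g hA hg
  exact ⟨n, hn, fun a ha => (hng a ha).symm⟩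

theorem controlsStrongFusion {G : Type u} [Group G] [Finite G] (h : Ctl p W G) (P : Sylow p G) :
    Cfsg.ControlsStrongFusion p (Cfsg.inducedFunctor (G := G) W (P : Subgroup G)) :=
  ⟨P, induced_le _, fun A hA => controlsStrongFusionOf h P (Cfsg.Lib.ZJ.stronglyClosed_self _) A hA⟩

end Cfsg.Lib.CtrlD
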