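import Cfsg.Agent.Components.ZJ.QData
import Cfsg.Agent.Components.ZJ.Glauberman

/-!
`Qd(p)` puts an `SL₂(p)`-section into the normalizer of a `p`-subgroup between `Z(S)` and `S`.
-/

set_option autoImplicit false
set_option linter.style.haveILetI false
set_option linter.unusedSectionVars false

namespace Cfsg.Lib.QData

open Subgroup
open Cfsg.Lib.Fusion (V2 actV QdRel)

variable {p : ℕ} [Fact p.Prime] {G : Type*} [Group G] [Finite G]

local notation "SL2" => Matrix.SpecialLinearGroup (Fin 2) (ZMod p)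

theorem exists_section_of_qd (hqd : Cfsg.Involves ↥(Cfsg.qd p) G) (S : Sylow p G) :
    ∃ P : Subgroup G, (S : Subgroup G) ⊓ centralizer ((S : Subgroup G) : Set G) ≤ P ∧ P ≤ S ∧
      ∃ (H K : Subgroup G) (_ : (K.subgroupOf H).Normal), H ≤ normalizer (P : Set G) ∧
        Nonempty ((H ⧸ K.subgroupOf H) ≃* SL2) := by
  obtain ⟨B, π, hB⟩ := Fusion.exists_isQdWitness hqd
  set C := centralizer (B : Set G)
  obtain ⟨T₁⟩ : Nonempty (Sylow p C) := inferInstance
  set U := (T₁ : Subgroup C).map C.subtype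
  have hUC : U ≤ C := map_subtype_le _
  have hUp : IsPGroup p U := T₁.2.map _
  have hBU : U ≤ normalizer (B : Set G) := hUC.trans (Cfsg.Lib.Thompson.centralizer_le_normalizer B)
  set R := B ⊔ U
  have hRp : IsPGroup p R := hB.pgroup.to_sup_of_normal_left' hUp hBU
  obtain ⟨T, hRT⟩ := hRp.exists_le_sylow
  have hZT : (T : Subgroup G) ⊓ centralizer ((T : Subgroup G) : Set G) ≤ R := by
    intro z hz
    refine mem_sup_right ?_
    have hzC : z ∈ C := centralizer_le (SetLike.coe_subset_coe.mpr (le_sup_left.trans hRT)) hz.2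
    have hW : IsPGroup p (((T : Subgroup G) ⊓ C).subgroupOf C) := (T.2.to_le inf_le_left).comap_subtype
    have hle : (T₁ : Subgroup C) ≤ ((T : Subgroup G) ⊓ C).subgroupOf C := fun x hx =>
      ⟨hRT (mem_sup_right ⟨x, hx, rfl⟩), x.2⟩
    refine ⟨⟨z, hzC⟩, ?_, rfl⟩
    rw [← T₁.3 hW hle]
    exact ⟨hz.1, hzC⟩
  obtain ⟨g, hg⟩ := MulAction.exists_smul_eq G T S
  have hgT : ∀ x, g * x * g⁻¹ ∈ (S : Subgroup G) ↔ x ∈ (T : Subgroup G) := fun x => by
    rw [← hg]; exact Cfsg.Lib.Transfer.mem_conj_sylow_iff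
  refine ⟨R.map (MulAut.conj g).toMonoidHom, ?_, ?_, ?_⟩
  · intro z hz
    refine ⟨g⁻¹ * z * g, hZT ⟨(hgT _).mp (by rw [show g * (g⁻¹ * z * g) * g⁻¹ = z by group]; exact hz.1), ?_⟩, by simp [mul_assoc]⟩
    refine mem_centralizer_iff.mpr fun y hy => ?_
    have h1 := mem_centralizer_iff.mp hz.2 _ ((hgT y).mpr hy)
    calc y * (g⁻¹ * z * g) = g⁻¹ * (g * y * g⁻¹ * z) * g := by group
      _ = g⁻¹ * (z * (g * y * g⁻¹)) * g := by rw [h1]
      _ = g⁻¹ * z * g * y := by group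
  · rintro _ ⟨x, hx, rfl⟩
    exact (hgT x).mpr (hRT hx)
  -- the relation group inside the normalizer
  let H₀ : Subgroup G :=
    { carrier := {h | h ∈ normalizer (R : Set G) ∧ ∃ M : SL2, QdRel π h M}
      one_mem' := ⟨Subgroup.one_mem _, 1, Fusion.qdRel_one π⟩
      mul_mem' := fun {a b} ha hb => ⟨Subgroup.mul_mem _ ha.1 hb.1, by
        obtain ⟨M, hM⟩ := ha.2
        obtain ⟨N, hN⟩ := hb.2
        exact ⟨M * N, hM.mul hN⟩⟩
      inv_mem' := fun {a} ha => ⟨Subgroup.inv_mem _ ha.1, by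
        obtain ⟨M, hM⟩ := ha.2
        exact ⟨M⁻¹, rel_inv hM⟩⟩ }
  let ρ : H₀ →* SL2 := MonoidHom.mk' (fun h => h.2.2.choose) fun a b =>
    rel_unique hB.surj (a * b).2.2.choose_spec (a.2.2.choose_spec.mul b.2.2.choose_spec)
  have hρ : Function.Surjective ρ := by
    intro M
    obtain ⟨x, hx⟩ := hB.rel M
    have hxB : x ∈ normalizer (B : Set G) := rel_normalizer hx
    have hxC : ∀ c ∈ C, x * c * x⁻¹ ∈ C := fun c hc => mem_centralizer_iff.mpr fun b hb => by
      have h1 := mem_centralizer_iff.mp hc _ (((mem_normalizer_iff''.mp hxB) b).mp hb)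
      calc b * (x * c * x⁻¹) = x * ((x⁻¹ * b * x) * c) * x⁻¹ := by group
        _ = x * (c * (x⁻¹ * b * x)) * x⁻¹ := by rw [h1]
        _ = x * c * x⁻¹ * b := by group
    obtain ⟨T₂, hT₂⟩ := ((hUp.map (MulAut.conj x).toMonoidHom).comap_subtype
      : IsPGroup p ((U.map (MulAut.conj x).toMonoidHom).subgroupOf C)).exists_le_sylow
    obtain ⟨c, hc⟩ := MulAction.exists_smul_eq C T₂ T₁
    have hcx : (c : G) * x ∈ normalizer (U : Set G) := by
      rw [← Cfsg.Lib.Transfer.map_conj_eq_self_iff]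
      refine eq_of_le_of_card_ge ?_ (Cfsg.Lib.Transfer.card_map_conj U _).ge
      rintro _ ⟨u, hu, rfl⟩
      refine ⟨c * ⟨x * u * x⁻¹, hxC u (hUC hu)⟩ * c⁻¹, ?_, by simp [mul_assoc]⟩
      rw [← hc]
      exact Cfsg.Lib.Transfer.mem_conj_sylow_iff.mpr (hT₂ ⟨u, hu, rfl⟩)
    have hcrel : QdRel π (c : G) 1 := fun y => ⟨y, by
      rw [← mem_centralizer_iff.mp c.2 y y.2, mul_inv_cancel_right], (Fusion.actV_one _).symm⟩
    have hcB : (c : G) * x ∈ normalizer (B : Set G) :=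
      Subgroup.mul_mem _ (Cfsg.Lib.Thompson.centralizer_le_normalizer B c.2) hxB
    have hmem : (c : G) * x ∈ H₀ := by
      refine ⟨?_, 1 * M, hcrel.mul hx⟩
      rw [← Cfsg.Lib.Transfer.map_conj_eq_self_iff] at hcx hcB ⊢
      rw [Subgroup.map_sup, hcx, hcB]
    refine ⟨⟨_, hmem⟩, ?_⟩
    exact rel_unique hB.surj (show (c : G) * x ∈ H₀ from hmem).2.choose_spec (one_mul M ▸ hcrel.mul hx)
  let e := (MulAut.conj g)
  let H := H₀.map e.toMonoidHom
  let eH : H₀ ≃* H := H₀.equivMapOfInjective e.toMonoidHom e.injective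
  let ρ' : H →* SL2 := ρ.comp eH.symm.toMonoidHom
  have hρ' : Function.Surjective ρ' := hρ.comp eH.symm.surjective
  have hK : (ρ'.ker.map H.subtype).subgroupOf H = ρ'.ker :=
    comap_map_eq_self_of_injective H.subtype_injective _
  haveI hn : ((ρ'.ker.map H.subtype).subgroupOf H).Normal := by rw [hK]; exact ρ'.normal_ker
  refine ⟨H, ρ'.ker.map H.subtype, hn, ?_,
    ⟨(QuotientGroup.quotientMulEquivOfEq hK).trans (QuotientGroup.quotientKerEquivOfSurjective ρ' hρ')⟩⟩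
  rintro _ ⟨h, hh, rfl⟩
  exact le_normalizer_map e.toMonoidHom ⟨h, hh.1, rfl⟩

end Cfsg.Lib.QData
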